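import Mathlib
import Cfsg.Prelude.Def_ClassicalGeometry
import Cfsg.Prelude.Def_LieClassical
import Cfsg.Agent.H12.SCount
import Cfsg.Agent.H12.Transport

/-!
The symplectic and unitary matrix groups of the prelude as isometry groups of skew-hermitian forms.
-/

set_option autoImplicit false

namespace Cfsg.Agent.H12

open Module Matrix

variable {F : Type*} [Field F]

section GLs

variable {ι : Type*} [Fintype ι] [DecidableEq ι]

/-- Invertible matrices as linear automorphisms. -/
def glEq (ι : Type*) [Fintype ι] [DecidableEq ι] (F : Type*) [Field F] :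
    GL ι F ≃* ((ι → F) ≃ₗ[F] (ι → F)) :=
  Matrix.GeneralLinearGroup.toLin.trans (LinearMap.GeneralLinearGroup.generalLinearEquiv F (ι → F))

theorem glEq_apply (g : GL ι F) (v : ι → F) : glEq ι F g v = (g : Matrix ι ι F) *ᵥ v := rfl

theorem mat_ext_mulVec {A A' : Matrix ι ι F} (h : ∀ v, A *ᵥ v = A' *ᵥ v) : A = A' :=
  Matrix.toLin'.injective (LinearMap.ext h)

theorem det_glEq (g : GL ι F) :
    LinearMap.det (glEq ι F g : (ι → F) →ₗ[F] (ι → F)) = (g : Matrix ι ι F).det :=
  LinearMap.det_toLin' _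

end GLs

/-! ### Symplectic groups -/

section Sp

variable {l : Type*} [Fintype l] [DecidableEq l]

/-- The standard alternating form. -/
def spB (l : Type*) [Fintype l] [DecidableEq l] (F : Type*) [Field F] :
    (l ⊕ l → F) →ₛₗ[RingHom.id F] (l ⊕ l → F) →ₗ[F] F := Matrix.toLinearMap₂' F (Matrix.J l F)

theorem spB_apply (u v : l ⊕ l → F) : spB l F u v = u ⬝ᵥ (Matrix.J l F *ᵥ v) :=
  Matrix.toLinearMap₂'_apply' _ _ _

theorem spB_apply' (u v : l ⊕ l → F) :
    spB l F u v = ∑ i, (u (Sum.inr i) * v (Sum.inl i) - u (Sum.inl i) * v (Sum.inr i)) := by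
  rw [spB_apply, Matrix.J, Matrix.fromBlocks_mulVec]
  simp [dotProduct, Fintype.sum_sum_type, Matrix.neg_mulVec, Finset.sum_sub_distrib]
  ring

theorem spB_eq {m : ℕ} (u v : Fin m ⊕ Fin m → F) : spB (Fin m) F u v = sympForm m F u v :=
  spB_apply u v

theorem spB_single_inr (i : l) (v : l ⊕ l → F) :
    spB l F (Pi.single (Sum.inr i) 1) v = v (Sum.inl i) := by
  simp [spB_apply', Pi.single_apply]

theorem spB_single_inl (i : l) (v : l ⊕ l → F) :
    spB l F (Pi.single (Sum.inl i) 1) v = -v (Sum.inr i) := by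
  simp [spB_apply', Pi.single_apply]

theorem sd_spB : SD (spB l F) where
  invol _ := rfl
  skew x y := by
    simp only [spB_apply', RingHom.id_apply, ← Finset.sum_neg_distrib]
    exact Finset.sum_congr rfl fun _ _ => by ring
  sep x hx := by
    have h1 : ∀ y, spB l F y x = 0 := fun y => by
      have := hx y
      simp only [spB_apply'] at this ⊢
      rw [← neg_eq_zero, ← Finset.sum_neg_distrib, ← this]
      exact Finset.sum_congr rfl fun _ _ => by ring
    ext (i | i)
    · simpa [spB_single_inr] using h1 (Pi.single (Sum.inr i) 1)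
    · simpa [spB_single_inl] using h1 (Pi.single (Sum.inl i) 1)
  trace x := ⟨0, by simp [spB_apply', mul_comm]⟩

theorem mem_sp_iff {A : Matrix (l ⊕ l) (l ⊕ l) F} :
    A ∈ symplecticGroup l F ↔ ∀ u v, spB l F (A *ᵥ u) (A *ᵥ v) = spB l F u v := by
  have : ∀ u v, spB l F (A *ᵥ u) (A *ᵥ v) = u ⬝ᵥ ((Aᵀ * J l F * A) *ᵥ v) := fun u v => by
    rw [spB_apply, ← mulVec_mulVec, ← mulVec_mulVec, dotProduct_mulVec u Aᵀ, vecMul_transpose]
  rw [SymplecticGroup.mem_iff']
  simp only [this, spB_apply]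
  refine ⟨fun h u v => by rw [h], fun h => ?_⟩
  ext i j
  simpa using h (Pi.single i 1) (Pi.single j 1)

/-- The symplectic group as an isometry group. -/
noncomputable def spEquiv (l : Type*) [Fintype l] [DecidableEq l] (F : Type*) [Field F] :
    symplecticGroup l F ≃* UG (spB l F) where
  toFun A := ⟨glEq _ F ((symplecticGroup l F).subtype.toHomUnits A), mem_sp_iff.mp A.2⟩
  invFun g := ⟨(glEq _ F).symm g.1, mem_sp_iff.mpr fun u v => by
    rw [← glEq_apply, ← glEq_apply, MulEquiv.apply_symm_apply, UG_map]⟩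
  left_inv A := Subtype.ext (by simp)
  right_inv g := UG_ext fun x => by
    change ((glEq _ F).symm g.1).1 *ᵥ x = _
    rw [← glEq_apply, MulEquiv.apply_symm_apply]
  map_mul' A A' := Subtype.ext (by simp)

theorem spEquiv_apply (A : symplecticGroup l F) (v : l ⊕ l → F) :
    (spEquiv l F A).1 v = (A : Matrix _ _ F) *ᵥ v := rfl

theorem spEquiv_symm_mulVec (g : UG (spB l F)) (v : l ⊕ l → F) :
    ((spEquiv l F).symm g : Matrix _ _ F) *ᵥ v = g.1 v := by
  rw [← spEquiv_apply, MulEquiv.apply_symm_apply]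

/-- The symplectic group as a special isometry group. -/
noncomputable def spEquivS (l : Type*) [Fintype l] [DecidableEq l] (F : Type*) [Field F] :
    symplecticGroup l F ≃* SUG (spB l F) :=
  (spEquiv l F).trans (Subgroup.topEquiv.symm.trans
    (MulEquiv.subgroupCongr (sd_spB.SUG_eq_top rfl).symm))

theorem spEquivS_coe (A : symplecticGroup l F) : (spEquivS l F A : UG _) = spEquiv l F A := rfl

theorem finrank_sp : finrank F (l ⊕ l → F) = 2 * Fintype.card l := by simp [two_mul]

theorem sympTransvection_mulVec {m : ℕ} (v : Fin m ⊕ Fin m → F) (c : F) (x : Fin m ⊕ Fin m → F) :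
    sympTransvection m v c *ᵥ x = (tv (spB (Fin m) F) v (-c)).1 x := by
  rw [tv_apply sd_spB (sd_spB.self_eq_zero rfl v) rfl, sd_spB.skew x v, spB_apply,
    sympTransvection, add_mulVec, one_mulVec, smul_mulVec, vecMulVec_mulVec, dotProduct_comm]
  simp [mul_smul]

theorem coe_eq_sympTransvection_iff {m : ℕ} {A : symplecticGroup (Fin m) F}
    {v : Fin m ⊕ Fin m → F} {c : F} :
    (A : Matrix _ _ F) = sympTransvection m v c ↔ spEquiv _ F A = tv (spB (Fin m) F) v (-c) :=
  ⟨fun h => UG_ext fun x => by rw [spEquiv_apply, h, sympTransvection_mulVec],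
    fun h => mat_ext_mulVec fun x => by rw [← spEquiv_apply, h, sympTransvection_mulVec]⟩

theorem coe_symm_tv {m : ℕ} (v : Fin m ⊕ Fin m → F) (c : F) :
    ((spEquiv _ F).symm (tv (spB (Fin m) F) v (-c)) : Matrix _ _ F) = sympTransvection m v c :=
  coe_eq_sympTransvection_iff.mpr (MulEquiv.apply_symm_apply _ _)

theorem map_closure_sympTransvection (m : ℕ) :
    (Subgroup.closure {A : symplecticGroup (Fin m) F | ∃ w c,
      (A : Matrix _ _ F) = sympTransvection m w c}).map (spEquiv (Fin m) F : _ →* _) =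
      TG (spB (Fin m) F) := by
  rw [MonoidHom.map_closure, TG]
  congr 1
  ext g
  constructor
  · rintro ⟨A, ⟨w, c, h⟩, rfl⟩
    exact ⟨w, -c, coe_eq_sympTransvection_iff.mp h⟩
  · rintro ⟨w, c, rfl⟩
    exact ⟨(spEquiv _ F).symm _, ⟨w, -c, by rw [← coe_symm_tv, neg_neg]⟩,
      MulEquiv.apply_symm_apply _ _⟩

theorem card_sp [Finite F] : Nat.card (symplecticGroup l F) = spOrd (Nat.card F) (Fintype.card l) :=
  (Nat.card_congr (spEquiv l F).toEquiv).trans (card_UG_sp _ sd_spB finrank_sp)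

theorem mem_stabilizing_sp {m : ℕ} {W : Submodule F (Fin m ⊕ Fin m → F)}
    {A : symplecticGroup (Fin m) F} :
    A ∈ stabilizing (spToMat m F) (W : Set _) ↔ spEquiv _ F A ∈ stabW (spB (Fin m) F) W :=
  forall_congr' fun _ => Iff.comm

theorem map_stabilizing_sp {m : ℕ} (W : Submodule F (Fin m ⊕ Fin m → F)) :
    (stabilizing (spToMat m F) (W : Set _)).map (spEquiv (Fin m) F : _ →* _) =
      stabW (spB (Fin m) F) W := by
  ext g
  obtain ⟨A, rfl⟩ := (spEquiv _ F).surjective g
  rw [← mem_stabilizing_sp]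
  exact Subgroup.mem_map_iff_mem (spEquiv _ F).injective

variable {V : Type*} [AddCommGroup V] [Module F V] [FiniteDimensional F V]

theorem SD.exists_equiv_sp' {B : V →ₛₗ[RingHom.id F] V →ₗ[F] F} (D : SD B) :
    ∃ (m : ℕ) (e : V ≃ₗ[F] (Fin m ⊕ Fin m → F)), ∀ x y, spB (Fin m) F (e x) (e y) = B x y := by
  obtain ⟨m, b, h1, h2, h3⟩ := H13.exists_symplectic_basis B (D.self_eq_zero rfl) D.sep
  refine ⟨m, (b.reindex (Equiv.sumComm _ _)).equivFun, fun x y => ?_⟩
  have h4 : ∀ i j, B (b (Sum.inr i)) (b (Sum.inl j)) = if i = j then -1 else 0 := fun i j => by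
    rw [D.skew, h1]; by_cases h : i = j <;> simp [h, eq_comm]
  conv_rhs => rw [← b.sum_repr x, ← b.sum_repr y]
  simp only [spB_apply', Basis.equivFun_apply, Basis.repr_reindex_apply, Equiv.sumComm_symm,
    Equiv.sumComm_apply, Sum.swap_inl, Sum.swap_inr, Fintype.sum_sum_type, map_add, map_sum,
    map_smul, LinearMap.add_apply, LinearMap.sum_apply, LinearMap.smul_apply, h1, h2, h3, h4,
    smul_eq_mul, mul_ite, mul_one, mul_zero, mul_neg, Finset.sum_ite_eq', Finset.mem_univ, if_true,
    Finset.sum_const_zero, zero_add, add_zero, ← Finset.sum_add_distrib]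
  exact Finset.sum_congr rfl fun _ _ => by ring

theorem SD.even_finrank {B : V →ₛₗ[RingHom.id F] V →ₗ[F] F} (D : SD B) : Even (finrank F V) := by
  obtain ⟨m, e, -⟩ := D.exists_equiv_sp'
  rw [e.finrank_eq, finrank_sp]; exact even_two_mul _

theorem SD.exists_equiv_sp {B : V →ₛₗ[RingHom.id F] V →ₗ[F] F} (D : SD B) {m : ℕ}
    (h : finrank F V = 2 * m) :
    ∃ e : V ≃ₗ[F] (Fin m ⊕ Fin m → F), ∀ x y, spB (Fin m) F (e x) (e y) = B x y := by
  obtain ⟨m', e, he⟩ := D.exists_equiv_sp'
  have := e.finrank_eq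
  rw [finrank_sp, Fintype.card_fin] at this
  obtain rfl : m' = m := by omega
  exact ⟨e, he⟩

theorem SD.nonempty_UG_equiv_sp {B : V →ₛₗ[RingHom.id F] V →ₗ[F] F} (D : SD B) {m : ℕ}
    (h : finrank F V = 2 * m) : Nonempty (UG B ≃* symplecticGroup (Fin m) F) := by
  obtain ⟨e, he⟩ := D.exists_equiv_sp h
  exact ⟨(UGcongr e one_ne_zero (by simpa using he)).trans (spEquiv _ F).symm⟩

end Sp

/-! ### The involution of a field with `q²` elements -/

section Frob

variable [Fintype F] {q : ℕ}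

theorem two_le_of_card_eq_sq (hF : Fintype.card F = q ^ 2) : 2 ≤ q := by
  have := Fintype.one_lt_card (α := F)
  rw [hF] at this
  by_contra h
  interval_cases q <;> simp at this

theorem exists_pow_of_card_eq_sq (hF : Fintype.card F = q ^ 2) :
    ∃ p j : ℕ, p.Prime ∧ CharP F p ∧ q = p ^ j := by
  obtain ⟨p, hp⟩ := CharP.exists F
  obtain ⟨k, hpp, hk⟩ := FiniteField.card F p
  have : q ∣ p ^ (k : ℕ) := by rw [← hk, hF]; exact dvd_pow_self q two_ne_zero
  obtain ⟨j, -, hj⟩ := (Nat.dvd_prime_pow hpp).mp this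
  exact ⟨p, j, hpp, hp, hj⟩

/-- The field automorphism `x ↦ x ^ q` of a field with `q²` elements. -/
def frobq (hF : Fintype.card F = q ^ 2) : F →+* F where
  toFun x := x ^ q
  map_one' := one_pow _
  map_mul' x y := mul_pow x y q
  map_zero' := zero_pow (by have := two_le_of_card_eq_sq hF; omega)
  map_add' x y := by
    obtain ⟨p, j, hp, _, rfl⟩ := exists_pow_of_card_eq_sq hF
    have := Fact.mk hp
    exact add_pow_char_pow x y p j

theorem frobq_apply (hF : Fintype.card F = q ^ 2) (x : F) : frobq hF x = x ^ q := rfl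

theorem frobq_frobq (hF : Fintype.card F = q ^ 2) (x : F) : frobq hF (frobq hF x) = x := by
  rw [frobq_apply, frobq_apply, ← pow_mul, ← sq, ← hF, FiniteField.pow_card]

theorem frobq_ne_id (hF : Fintype.card F = q ^ 2) : frobq hF ≠ RingHom.id F := fun h => by
  have h2 := two_le_of_card_eq_sq hF
  obtain ⟨g, hg⟩ := IsCyclic.exists_ofOrder_eq_natCard (α := Fˣ)
  have h1 : g ^ (q - 1) = 1 := by
    have : (g : F) ^ q = g := RingHom.congr_fun h g
    have h3 : g ^ (q - 1) * g = 1 * g := by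
      rw [← pow_succ, Nat.sub_add_cancel (by omega), one_mul]; exact Units.ext (by simpa using this)
    exact mul_right_cancel h3
  have h4 := Nat.le_of_dvd (by omega) (orderOf_dvd_of_pow_eq_one h1)
  rw [hg, Nat.card_units, Nat.card_eq_fintype_card, hF] at h4
  have : q * 2 ≤ q ^ 2 := by nlinarith
  omega

theorem q0_frobq (hF : Fintype.card F = q ^ 2) : q0 (frobq hF) = q := by
  have := card_eq_q0_sq (frobq_ne_id hF) (frobq_frobq hF)
  rw [Nat.card_eq_fintype_card, hF] at this
  exact (Nat.pow_left_injective two_ne_zero this).symm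

theorem card_N1_frobq (hF : Fintype.card F = q ^ 2) : Nat.card (N1 (frobq hF)) = q + 1 := by
  rw [card_N1 (frobq_ne_id hF) (frobq_frobq hF), q0_frobq]

/-- A fixed non-zero skew element. -/
noncomputable def skw (hF : Fintype.card F = q ^ 2) : F :=
  (exists_skew (frobq_ne_id hF) (frobq_frobq hF)).choose

theorem skw_ne (hF : Fintype.card F = q ^ 2) : skw hF ≠ 0 :=
  (exists_skew (frobq_ne_id hF) (frobq_frobq hF)).choose_spec.1

theorem frobq_skw (hF : Fintype.card F = q ^ 2) : frobq hF (skw hF) = -skw hF :=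
  (exists_skew (frobq_ne_id hF) (frobq_frobq hF)).choose_spec.2

end Frob

/-! ### Unitary groups -/

section Std

variable {ι : Type*} [Fintype ι] {σ : F →+* F}

/-- The form `c Σ σ(x_i) y_i`. -/
def stdB (σ : F →+* F) (c : F) (ι : Type*) [Fintype ι] : (ι → F) →ₛₗ[σ] (ι → F) →ₗ[F] F :=
  LinearMap.mk₂'ₛₗ σ (RingHom.id F) (fun x y => c * ∑ i, σ (x i) * y i)
    (fun x x' y => by simp [add_mul, Finset.sum_add_distrib, mul_add])
    (fun a x y => by simp [Finset.mul_sum, mul_assoc, mul_left_comm])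
    (fun x y y' => by simp [mul_add, Finset.sum_add_distrib])
    (fun a x y => by simp [Finset.mul_sum, mul_left_comm])

theorem stdB_apply (c : F) (x y : ι → F) : stdB σ c ι x y = c * ∑ i, σ (x i) * y i := rfl

theorem sd_stdB (hσ : σ ≠ RingHom.id F) (h2 : ∀ a, σ (σ a) = a) {c : F} (hc0 : c ≠ 0)
    (hc : σ c = -c) : SD (stdB σ c ι) := by
  classical
  have hs : ∀ x y, stdB σ c ι y x = -σ (stdB σ c ι x y) := fun x y => by
    simp [stdB_apply, hc, h2, mul_comm]
  refine ⟨h2, hs, fun x hx => funext fun i => ?_, fun x => exists_sub_conj_eq hσ h2 ?_⟩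
  · have := hx (Pi.single i 1)
    simp only [stdB_apply, Pi.single_apply, mul_ite, mul_one, mul_zero, Finset.sum_ite_eq',
      Finset.mem_univ, if_true, mul_eq_zero, hc0, false_or] at this
    rw [← h2 (x i), this, map_zero]; rfl
  · conv_rhs => rw [hs, neg_neg]

variable {V : Type*} [AddCommGroup V] [Module F V] [FiniteDimensional F V]

theorem SD.exists_equiv_std [Finite F] {B : V →ₛₗ[σ] V →ₗ[F] F} (D : SD B) (hσ : σ ≠ RingHom.id F)
    {c : F} (hc0 : c ≠ 0) (hc : σ c = -c) {n : ℕ} (h : finrank F V = n) :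
    ∃ e : V ≃ₗ[F] (Fin n → F), ∀ x y, stdB σ c (Fin n) (e x) (e y) = B x y := by
  subst h
  obtain ⟨b, hb⟩ := H13.exists_orthonormal_basis_herm hσ D.invol (c⁻¹ • B)
    (fun x y => by simp [hc, D.σ_map, inv_neg])
    (fun x hx => D.sep x fun y => by simpa [hc0] using hx y)
  have h1 : ∀ i j, B (b i) (b j) = if i = j then c else 0 := fun i j => by
    have := hb i j
    simp only [LinearMap.smul_apply, smul_eq_mul] at this
    rw [inv_mul_eq_iff_eq_mul₀ hc0] at this
    simpa using this
  refine ⟨b.equivFun, fun x y => ?_⟩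
  conv_rhs => rw [← b.sum_repr x, ← b.sum_repr y]
  simp only [stdB_apply, Basis.equivFun_apply, map_sum, LinearMap.map_smulₛₗ, LinearMap.sum_apply,
    LinearMap.smul_apply, h1, smul_eq_mul, mul_ite, mul_zero, Finset.sum_ite_eq', Finset.mem_univ,
    if_true, RingHom.id_apply, Finset.mul_sum]
  exact Finset.sum_congr rfl fun _ _ => by ring

end Std

section U

variable [Fintype F] {q : ℕ}

/-- The skew-hermitian multiple of the standard hermitian form. -/
noncomputable abbrev uB (hF : Fintype.card F = q ^ 2) (n : ℕ) := stdB (frobq hF) (skw hF) (Fin n)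

theorem uB_apply (hF : Fintype.card F = q ^ 2) {n : ℕ} (x y : Fin n → F) :
    uB hF n x y = skw hF * hermForm n F q y x := by
  simp [stdB_apply, hermForm, frobq_apply, mul_comm]

theorem uB_eq_zero (hF : Fintype.card F = q ^ 2) {n : ℕ} {x y : Fin n → F} :
    uB hF n x y = 0 ↔ hermForm n F q y x = 0 := by
  simp [uB_apply, skw_ne]

theorem sd_uB (hF : Fintype.card F = q ^ 2) (n : ℕ) : SD (uB hF n) :=
  sd_stdB (frobq_ne_id hF) (frobq_frobq hF) (skw_ne hF) (frobq_skw hF)

theorem preserves_iff_uB (hF : Fintype.card F = q ^ 2) {n : ℕ} (f : (Fin n → F) → (Fin n → F)) :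
    (∀ u v, hermForm n F q (f u) (f v) = hermForm n F q u v) ↔
      ∀ u v, uB hF n (f u) (f v) = uB hF n u v := by
  simp only [uB_apply, mul_right_inj' (skw_ne hF)]
  exact forall_comm

/-- The general unitary group as an isometry group. -/
noncomputable def guEquiv (hF : Fintype.card F = q ^ 2) (n : ℕ) : GU n F q ≃* UG (uB hF n) :=
  subgroupCongrOfMem (glEq (Fin n) F) _ _ fun g => preserves_iff_uB hF (g.1 *ᵥ ·)

theorem guEquiv_apply (hF : Fintype.card F = q ^ 2) {n : ℕ} (g : GU n F q) (v : Fin n → F) :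
    (guEquiv hF n g).1 v = (g.1 : Matrix _ _ F) *ᵥ v := rfl

theorem udet_guEquiv (hF : Fintype.card F = q ^ 2) {n : ℕ} (g : GU n F q) :
    udet _ (guEquiv hF n g) = Matrix.GeneralLinearGroup.det g.1 :=
  Units.ext ((coe_udet _).trans (det_glEq g.1))

/-- The special unitary group as a special isometry group. -/
noncomputable def suEquiv (hF : Fintype.card F = q ^ 2) (n : ℕ) : SU n F q ≃* SUG (uB hF n) where
  toFun A := ⟨⟨glEq _ F (Matrix.SpecialLinearGroup.toGL A.1), (preserves_iff_uB hF _).mp A.2⟩,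
    mem_SUG.mpr ((det_glEq _).trans A.1.2)⟩
  invFun g := ⟨⟨(glEq _ F).symm g.1.1, by
      rw [← det_glEq, MulEquiv.apply_symm_apply]; exact mem_SUG.mp g.2⟩,
    (preserves_iff_uB hF _).mpr fun u v => by
      change uB hF n (((glEq _ F).symm g.1.1).1 *ᵥ u) (((glEq _ F).symm g.1.1).1 *ᵥ v) = _
      rw [← glEq_apply, ← glEq_apply, MulEquiv.apply_symm_apply, UG_map]⟩
  left_inv A := Subtype.ext (Subtype.ext (by simp))
  right_inv g := Subtype.ext (UG_ext fun x => by
    change ((glEq _ F).symm g.1.1).1 *ᵥ x = _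
    rw [← glEq_apply, MulEquiv.apply_symm_apply])
  map_mul' A A' := Subtype.ext (Subtype.ext (by simp))

theorem suEquiv_apply (hF : Fintype.card F = q ^ 2) {n : ℕ} (g : SU n F q) (v : Fin n → F) :
    (suEquiv hF n g).1.1 v = (g.1 : Matrix _ _ F) *ᵥ v := rfl

theorem unitaryTransvection_mulVec {n : ℕ} (v : Fin n → F) (c : F) (x : Fin n → F) :
    unitaryTransvection n q v c *ᵥ x = x + (c * hermForm n F q x v) • v := by
  rw [unitaryTransvection, add_mulVec, one_mulVec, smul_mulVec, vecMulVec_mulVec, mul_smul,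
    op_smul_eq_smul]
  simp [hermForm, dotProduct, mul_comm]

theorem unitaryTransvection_mulVec' (hF : Fintype.card F = q ^ 2) {n : ℕ} (v : Fin n → F) (c : F)
    (x : Fin n → F) :
    unitaryTransvection n q v c *ᵥ x = x + (c / skw hF * uB hF n v x) • v := by
  rw [unitaryTransvection_mulVec, uB_apply, ← mul_assoc, div_mul_cancel₀ _ (skw_ne hF)]

/-- For an isotropic vector the map `x ↦ x + c B(v,x) v` is an isometry iff `c` is fixed. -/
theorem SD.fix_of_isometry {V : Type*} [AddCommGroup V] [Module F V] {σ : F →+* F}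
    {B : V →ₛₗ[σ] V →ₗ[F] F} (D : SD B) {v : V} (hv : B v v = 0) (h0 : v ≠ 0) {c : F}
    (h : ∀ x y, B (x + (c * B v x) • v) (y + (c * B v y) • v) = B x y) : σ c = c := by
  obtain ⟨y, hy⟩ := D.exists_ne h0
  have := h y y
  simp only [map_add, LinearMap.add_apply, LinearMap.map_smulₛₗ, LinearMap.smul_apply,
    smul_eq_mul, RingHom.id_apply, hv, D.skew v y, map_mul] at this
  exact mul_right_cancel₀ (mul_ne_zero hy (D.σ_ne_zero hy)) (by linear_combination this)

theorem suEquiv_eq_tv (hF : Fintype.card F = q ^ 2) {n : ℕ} {A : SU n F q} {v : Fin n → F} {c : F}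
    (hv : hermForm n F q v v = 0) (h : (A.1 : Matrix _ _ F) = unitaryTransvection n q v c) :
    suEquiv hF n A = (sd_uB hF n).tvS v (c / skw hF) := by
  have hv' := (uB_eq_zero hF).mpr hv
  refine Subtype.ext (UG_ext fun x => ?_)
  rw [suEquiv_apply, h, unitaryTransvection_mulVec' hF]
  by_cases h0 : v = 0
  · simp [h0, tv_zero_left (sd_uB hF n)]
  · refine (tv_apply (sd_uB hF n) hv' ((sd_uB hF n).fix_of_isometry hv' h0 fun x y => ?_) x).symm
    rw [← unitaryTransvection_mulVec' hF, ← unitaryTransvection_mulVec' hF, ← h]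
    exact UG_map (suEquiv hF n A).1 x y

theorem coe_suEquiv_symm_tvS (hF : Fintype.card F = q ^ 2) {n : ℕ} {v : Fin n → F} {c : F}
    (hv : uB hF n v v = 0) (hc : frobq hF c = c) :
    (((suEquiv hF n).symm ((sd_uB hF n).tvS v c)).1 : Matrix _ _ F) =
      unitaryTransvection n q v (c * skw hF) := mat_ext_mulVec fun x => by
  rw [← suEquiv_apply hF, MulEquiv.apply_symm_apply, unitaryTransvection_mulVec' hF,
    mul_div_cancel_right₀ _ (skw_ne hF)]
  exact tv_apply (sd_uB hF n) hv hc x

theorem th_uB (hF : Fintype.card F = q ^ 2) {n : ℕ} (h : ¬ (n = 3 ∧ q = 2)) : TH (uB hF n) := by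
  by_cases h3 : n = 3
  · have := two_le_of_card_eq_sq hF
    exact Or.inl (exists_fix_ne_of_three_le (by rw [q0_frobq]; omega))
  · exact Or.inr (Or.inr (by simpa using h3))

theorem card_GU (hF : Fintype.card F = q ^ 2) (n : ℕ) : Nat.card (GU n F q) = guOrd q n := by
  rw [Nat.card_congr (guEquiv hF n).toEquiv, (sd_uB hF n).card_UG_unitary (frobq_ne_id hF),
    q0_frobq]
  simp

theorem card_SU (hF : Fintype.card F = q ^ 2) {n : ℕ} (hn : 1 ≤ n) :
    (q + 1) * Nat.card (SU n F q) = guOrd q n := by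
  have := (sd_uB hF n).card_SUG_unitary (frobq_ne_id hF) (by simpa using hn)
  rw [q0_frobq] at this
  rw [Nat.card_congr (suEquiv hF n).toEquiv, this]
  simp

theorem card_center_congr {G H : Type*} [Group G] [Group H] (e : G ≃* H) :
    Nat.card (Subgroup.center G) = Nat.card (Subgroup.center H) :=
  card_eq_of_map_injective (f := (e : G →* H)) e.injective (map_center_equiv e)

theorem card_center_SU (hF : Fintype.card F = q ^ 2) {n : ℕ} (hn : 2 ≤ n) :
    Nat.card (Subgroup.center (SU n F q)) = Nat.gcd n (q + 1) := by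
  rw [card_center_congr (suEquiv hF n),
    (sd_uB hF n).card_center_SUG (sd_uB hF n).ns (by simpa using hn), card_N1_pow_eq_one,
    card_N1_frobq]
  simp

theorem card_PSU (hF : Fintype.card F = q ^ 2) {n : ℕ} (hn : 2 ≤ n) :
    Nat.gcd n (q + 1) * ((q + 1) * Nat.card (PSU n F q)) = guOrd q n := by
  rw [← card_SU hF (by omega), Subgroup.card_eq_card_quotient_mul_card_subgroup
    (Subgroup.center (SU n F q)), card_center_SU hF hn]
  ring

theorem commutator_eq_top_congr {G H : Type*} [Group G] [Group H] (e : G ≃* H)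
    (h : commutator H = ⊤) : commutator G = ⊤ := by
  have := map_commutator_eq H (e.symm : H →* G)
  rw [h, MonoidHom.range_eq_top.mpr e.symm.surjective, ← MonoidHom.range_eq_map,
    MonoidHom.range_eq_top.mpr e.symm.surjective] at this
  exact this.symm

theorem commutator_SU (hF : Fintype.card F = q ^ 2) {n : ℕ} (hn : 3 ≤ n) (h : ¬ (n = 3 ∧ q = 2)) :
    commutator (SU n F q) = ⊤ :=
  commutator_eq_top_congr (suEquiv hF n) ((sd_uB hF n).commutator_SUG_of_ne (sd_uB hF n).ns
    (th_uB hF h) (frobq_ne_id hF) (by simpa using hn))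

theorem PSU_simple (hF : Fintype.card F = q ^ 2) {n : ℕ} (hn : 3 ≤ n) (h : ¬ (n = 3 ∧ q = 2)) :
    IsSimpleGroup (PSU n F q) := by
  have D := sd_uB hF n
  have := D.isSimpleGroup D.ns (by simp; omega) (D.TG_eq_SUG D.ns (th_uB hF h))
    (D.commutator_SUG_of_ne D.ns (th_uB hF h) (frobq_ne_id hF) (by simpa using hn))
  exact (centerQuotCongr (suEquiv hF n)).isSimpleGroup

theorem SD.nonempty_UG_equiv_GU (hF : Fintype.card F = q ^ 2) {V : Type*} [AddCommGroup V]
    [Module F V] [FiniteDimensional F V] {B : V →ₛₗ[frobq hF] V →ₗ[F] F} (D : SD B) {n : ℕ}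
    (h : finrank F V = n) : Nonempty (UG B ≃* GU n F q) := by
  obtain ⟨e, he⟩ := D.exists_equiv_std (frobq_ne_id hF) (skw_ne hF) (frobq_skw hF) h
  exact ⟨(UGcongr e one_ne_zero (by simpa using he)).trans (guEquiv hF n).symm⟩

theorem SD.nonempty_SUG_equiv_SU (hF : Fintype.card F = q ^ 2) {V : Type*} [AddCommGroup V]
    [Module F V] [FiniteDimensional F V] {B : V →ₛₗ[frobq hF] V →ₗ[F] F} (D : SD B) {n : ℕ}
    (h : finrank F V = n) : Nonempty (SUG B ≃* SU n F q) := by
  obtain ⟨e, he⟩ := D.exists_equiv_std (frobq_ne_id hF) (skw_ne hF) (frobq_skw hF) h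
  exact ⟨(SUGcongr e one_ne_zero (by simpa using he)).trans (suEquiv hF n).symm⟩

end U

/-! ### Perfectness and simplicity of symplectic groups -/

section SpSimple

theorem exists_sq_ne_one_of_card [Fintype F] (hF : 4 ≤ Fintype.card F) :
    ∃ a : F, a ≠ 0 ∧ a ^ 2 ≠ 1 := by
  classical
  by_contra! h
  have h1 : (Finset.univ : Finset F) ⊆ {0, 1, -1} := fun a _ => by
    by_cases h0 : a = 0
    · simp [h0]
    · rcases sq_eq_one_iff.mp (h a h0) with h | h <;> simp [h]
  have := (Finset.card_le_card h1).trans Finset.card_le_three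
  rw [Finset.card_univ] at this
  omega

theorem commutator_SUG_sp [Fintype F] (m : ℕ)
    (h : 3 ≤ m ∨ (m = 2 ∧ 3 ≤ Fintype.card F) ∨ 4 ≤ Fintype.card F) :
    commutator (SUG (spB (Fin m) F)) = ⊤ := by
  refine sd_spB.commutator_SUG_of_eq rfl ?_
  rw [finrank_sp, Fintype.card_fin]
  by_cases h4 : 4 ≤ Fintype.card F
  · exact Or.inr (Or.inr (exists_sq_ne_one_of_card h4))
  rcases h with h | ⟨rfl, h⟩ | h
  · exact Or.inl (by omega)
  · refine Or.inr (Or.inl ⟨by omega, fun h2 => ?_⟩)
    have h3 : ((Fintype.card F : ℕ) : F) = 0 := FiniteField.cast_card_eq_zero F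
    rw [show Fintype.card F = 3 by omega] at h3
    exact one_ne_zero (α := F) (by push_cast at h3; linear_combination h3 - h2)
  · exact absurd h h4

theorem commutator_sp [Fintype F] (m : ℕ)
    (h : 3 ≤ m ∨ (m = 2 ∧ 3 ≤ Fintype.card F) ∨ 4 ≤ Fintype.card F) :
    commutator (symplecticGroup (Fin m) F) = ⊤ :=
  commutator_eq_top_congr (spEquivS _ F) (commutator_SUG_sp m h)

theorem PSp_simple [Fintype F] (m : ℕ) (hm : 1 ≤ m)
    (h : 3 ≤ m ∨ (m = 2 ∧ 3 ≤ Fintype.card F) ∨ 4 ≤ Fintype.card F) : IsSimpleGroup (PSp m F) := by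
  have D : SD (spB (Fin m) F) := sd_spB
  have := D.isSimpleGroup ns_id (by rw [finrank_sp, Fintype.card_fin]; omega)
    (D.TG_eq_SUG ns_id (Or.inr (Or.inl rfl))) (commutator_SUG_sp m h)
  exact (centerQuotCongr (spEquivS _ F)).isSimpleGroup

theorem card_center_sp [Finite F] {l : Type*} [Fintype l] [DecidableEq l] [Nonempty l] :
    Nat.card (Subgroup.center (symplecticGroup l F)) = Nat.gcd 2 (Nat.card F - 1) := by
  have h2 : 2 ≤ finrank F (l ⊕ l → F) := by
    rw [finrank_sp]; have := Fintype.card_pos (α := l); omega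
  rw [card_center_congr (spEquiv l F), sd_spB.center_UG ns_id h2, ← card_N1_id]
  exact (Nat.card_congr (MonoidHom.ofInjective scalUG_injective).toEquiv).symm

end SpSimple

end Cfsg.Agent.H12
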