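import Cfsg.Agent.H12.PSL2Dih

/-! Four-groups in a finite group with one class of involutions and dihedral centralizers. -/

set_option autoImplicit false

namespace Cfsg.Agent.H12

variable {G : Type*} [Group G] [Finite G]

theorem eq_pow_half_of_mem_zpowers {a z : G} {n : ℕ} (ho : orderOf a = 2 * n)
    (hz : z ∈ Subgroup.zpowers a) (hz2 : orderOf z = 2) : z = a ^ n := by
  obtain ⟨j, rfl⟩ := mem_powers_iff_mem_zpowers.2 hz
  have h6 := pow_orderOf_eq_one (a ^ j)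
  have h7 := H11.ne_one_of_orderOf_two hz2
  rw [hz2, ← pow_mul, ← orderOf_dvd_iff_pow_eq_one, ho, mul_comm j,
    Nat.mul_dvd_mul_iff_left two_pos] at h6
  obtain ⟨i, rfl⟩ := h6
  rw [Ne, ← orderOf_dvd_iff_pow_eq_one, ho] at h7
  obtain ⟨l, rfl⟩ : Odd i := Nat.not_even_iff_odd.1 fun ⟨l, hl⟩ => h7 ⟨l, by rw [hl]; ring⟩
  simp only
  rw [mul_add, pow_add, ← mul_assoc, mul_comm n, pow_mul, ← ho, pow_orderOf_eq_one]; simp

theorem card_commuting_invol_pairs :
    Nat.card {p : G × G // orderOf p.1 = 2 ∧ orderOf p.2 = 2 ∧ p.1 ≠ p.2 ∧ p.1 * p.2 = p.2 * p.1} =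
      Nat.card {V : Subgroup G // IsKleinFour V} * 6 := by
  classical
  refine natCard_eq_mul_of_fibers
    (fun p => ⟨_, H11.isKleinFour_closure p.2.1 p.2.2.1 p.2.2.2.1 p.2.2.2.2⟩) 6 ?_
  rintro ⟨V, hV⟩
  have := Fintype.ofFinite V
  have h3 : ((Finset.univ.erase (1 : V)).offDiag).card = 6 := by
    rw [Finset.offDiag_card, Finset.card_erase_of_mem (Finset.mem_univ _), Finset.card_univ,
      ← Nat.card_eq_fintype_card, hV.card_four]
  have h4 : ∀ p : V × V, p ∈ (Finset.univ.erase (1 : V)).offDiag ↔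
      (p.1 : G) ≠ 1 ∧ (p.2 : G) ≠ 1 ∧ (p.1 : G) ≠ p.2 := fun p => by simp
  rw [← h3, ← Nat.card_eq_finsetCard]
  symm
  refine Nat.card_eq_of_bijective (fun p => ⟨⟨(p.1.1, p.1.2), ?_⟩, ?_⟩) ⟨?_, ?_⟩
  · have hp := (h4 _).1 p.2
    exact ⟨H11.klein_orderOf hV p.1.1.2 hp.1, H11.klein_orderOf hV p.1.2.2 hp.2.1, hp.2.2,
      H11.klein_comm hV p.1.1.2 p.1.2.2⟩
  · have hp := (h4 _).1 p.2
    exact Subtype.ext (H11.klein_eq_closure hV p.1.1.2 p.1.2.2 hp.1 hp.2.1 hp.2.2).symm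
  · intro p q h
    have h1 := congrArg (fun x => x.1.1) h
    exact Subtype.ext (Prod.ext (Subtype.ext (congrArg Prod.fst h1))
      (Subtype.ext (congrArg Prod.snd h1)))
  · rintro ⟨⟨⟨x, y⟩, hx, hy, hxy, h⟩, e⟩
    obtain rfl : Subgroup.closure {x, y} = V := congrArg Subtype.val e
    exact ⟨⟨(⟨x, Subgroup.subset_closure (by simp)⟩, ⟨y, Subgroup.subset_closure (by simp)⟩),
      (h4 _).2 ⟨H11.ne_one_of_orderOf_two hx, H11.ne_one_of_orderOf_two hy, hxy⟩⟩, rfl⟩

theorem IsDihedralPair.orderOf_mul {H : Subgroup G} {a s b : G} (hD : IsDihedralPair H a s)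
    (hb : b ∈ Subgroup.zpowers a) : s * b ∉ Subgroup.zpowers a ∧ s * b ∈ H ∧ orderOf (s * b) = 2 := by
  have h1 : s * b ∉ Subgroup.zpowers a := fun h =>
    hD.2.2.2 ((Subgroup.mul_mem_cancel_right _ hb).1 h)
  have h2 : s * b ∈ H := H.mul_mem hD.right_mem (Subgroup.zpowers_le.2 hD.left_mem hb)
  exact ⟨h1, h2, H11.orderOf_two_of (fun e => h1 (e ▸ one_mem _))
    ((hD.mem_zpowers_or h2).resolve_left h1)⟩

theorem exists_eq_mul_of_commute {a s y : G} {n : ℕ}
    (hD : IsDihedralPair (Subgroup.centralizer {a ^ n}) a s) (ho : orderOf a = 2 * n)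
    (hy : orderOf y = 2) (hxy : a ^ n ≠ y) (h : a ^ n * y = y * a ^ n) : ∃ k : ℤ, y = s * a ^ k := by
  obtain ⟨k, rfl | rfl⟩ := hD.mem_iff.1 (Subgroup.mem_centralizer_singleton_iff.2 h.symm)
  · exact absurd (eq_pow_half_of_mem_zpowers ho ⟨k, rfl⟩ hy).symm hxy
  · exact ⟨k, rfl⟩

variable {n : ℕ} {x : G} (hx : orderOf x = 2) (hconj : ∀ y, orderOf y = 2 → IsConj x y)
include hx hconj

theorem twelve_mul_card_klein
    (hC : ∀ y : G, orderOf y = 2 → ∃ a s, IsDihedralPair (Subgroup.centralizer {y}) a s ∧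
      orderOf a = 2 * n ∧ y = a ^ n) :
    12 * Nat.card {V : Subgroup G // IsKleinFour V} = Nat.card G := by
  have h1 := card_commuting_invol_pairs (G := G)
  have h3 := natCard_eq_mul_of_fibers (α := {p : G × G // orderOf p.1 = 2 ∧ orderOf p.2 = 2 ∧
    p.1 ≠ p.2 ∧ p.1 * p.2 = p.2 * p.1}) (β := {x : G // orderOf x = 2})
    (fun p => ⟨_, p.2.1⟩) (2 * n) (by
      rintro ⟨x, hx⟩
      obtain ⟨a, s, hD, ho, rfl⟩ := hC x hx
      rw [← ho, ← Nat.card_zpowers]
      symm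
      refine Nat.card_eq_of_bijective (fun b => ⟨⟨(a ^ n, s * b), hx, (hD.orderOf_mul b.2).2.2,
        fun e => (hD.orderOf_mul b.2).1 ((show a ^ n = s * b from e) ▸ Subgroup.pow_mem _ (Subgroup.mem_zpowers a) n),
        (Subgroup.mem_centralizer_singleton_iff.1 (hD.orderOf_mul b.2).2.1).symm⟩, rfl⟩) ⟨?_, ?_⟩
      · intro b c h
        exact Subtype.ext (mul_left_cancel (congrArg (fun x => x.1.1.2) h))
      · rintro ⟨⟨⟨x, y⟩, hx', hy, hxy, h⟩, e⟩
        obtain rfl : x = a ^ n := congrArg Subtype.val e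
        obtain ⟨k, rfl⟩ := exists_eq_mul_of_commute hD ho hy hxy h
        exact ⟨⟨_, k, rfl⟩, rfl⟩)
  obtain ⟨a, s, hD, ho, -⟩ := hC x hx
  have h4 : Nat.card {x : G // orderOf x = 2} = (Subgroup.centralizer {x}).index := by
    rw [← card_isConj_eq_index]
    exact Nat.card_congr (Equiv.subtypeEquivRight fun y => ⟨hconj y,
      fun h => H11.orderOf_eq_of_isConj h ▸ hx⟩)
  rw [← (Subgroup.centralizer {x}).card_mul_index, hD.card, ho, ← h4]
  linarith

omit hx in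
theorem klein_conj_cases {a s : G} (hD : IsDihedralPair (Subgroup.centralizer {x}) a s)
    (ho : orderOf a = 2 * n) (hxa : x = a ^ n) {W : Subgroup G} (hW : IsKleinFour W) :
    (∃ g, W = (Subgroup.closure {x, s}).map (MulAut.conj g).toMonoidHom) ∨
      ∃ g, W = (Subgroup.closure {x, s * a}).map (MulAut.conj g).toMonoidHom := by
  obtain ⟨u, hu, v, hv, hu1, hv1, huv⟩ := H11.klein_exists_gens hW
  obtain ⟨g, rfl⟩ := isConj_iff.1 (hconj u (H11.klein_orderOf hW hu hu1))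
  obtain ⟨v, rfl⟩ := (MulAut.conj g).surjective v
  subst hxa
  obtain ⟨k, rfl⟩ := exists_eq_mul_of_commute hD ho (y := v)
    (by rw [← H11.klein_orderOf hW hv hv1]; exact (H11.orderOf_conj g v).symm)
    (fun e => huv (by rw [e]; rfl)) ((MulAut.conj g).injective (by
      simpa only [map_mul] using! H11.klein_comm hW hu hv))
  rw [H11.klein_eq_closure hW hu hv hu1 hv1 huv]
  have h1 : ∀ j : ℤ, a ^ j * s = s * a ^ (-j) := fun j => by
    rw [H11.zpow_mul_of_inv hD.2.2.1, zpow_neg]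
  obtain ⟨j, rfl | rfl⟩ := Int.even_or_odd' k
  · refine Or.inl ⟨g * a ^ (-j), ?_⟩
    rw [MonoidHom.map_closure, Set.image_pair]
    congr 2
    · simp only [MulEquiv.coe_toMonoidHom, MulAut.conj_apply]; group
    · simp only [MulEquiv.coe_toMonoidHom, MulAut.conj_apply, mul_assoc g, h1]; group
  · refine Or.inr ⟨g * a ^ (-j), ?_⟩
    rw [MonoidHom.map_closure, Set.image_pair]
    congr 2
    · simp only [MulEquiv.coe_toMonoidHom, MulAut.conj_apply]; group
    · simp only [MulEquiv.coe_toMonoidHom, MulAut.conj_apply, mul_assoc g]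
      rw [← mul_assoc _ s, h1]
      group

end Cfsg.Agent.H12
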