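import Mathlib
import Cfsg.Agent.H12.PSL2Dih

/-! Quaternion pairs in `SL₂` and four-groups of `PGL₂(q)`. -/

set_option autoImplicit false

namespace Cfsg.Agent.H12

open Matrix MulAction
open scoped MatrixGroups LinearAlgebra.Projectivization Pointwise

variable {F : Type*} [Field F]

theorem anti_of_trace {U V : Matrix (Fin 2) (Fin 2) F} (h1 : U.trace = 0) (h2 : V.trace = 0)
    (h3 : (U * V).trace = 0) : U * V = -(V * U) := by
  simp only [trace_fin_two, mul_apply, Fin.sum_univ_two] at h1 h2 h3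
  ext i j; fin_cases i <;> fin_cases j <;> simp [mul_apply, Fin.sum_univ_two] <;> grind

/-- A pair generating a quaternion group. -/
structure QP (X Y : Matrix (Fin 2) (Fin 2) F) : Prop where
  l : X * X = -1
  r : Y * Y = -1
  anti : Y * X = -(X * Y)
  tl : X.trace = 0
  tr : Y.trace = 0

variable {X Y X' Y' : Matrix (Fin 2) (Fin 2) F} (h2 : (2 : F) ≠ 0)
include h2

theorem eq_zero_of_eq_neg {a : F} (h : a = -a) : a = 0 := by
  rw [eq_neg_iff_add_eq_zero, ← two_mul] at h; simpa [h2] using h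

theorem QP.trace_mul (h : QP X Y) : (X * Y).trace = 0 :=
  eq_zero_of_eq_neg h2 (by rw [← trace_neg, ← h.anti, trace_mul_comm])

theorem QP.expand (h : QP X Y) (A : Matrix (Fin 2) (Fin 2) F) :
    (2 : F) • A = A.trace • (1 : Matrix _ _ F) - (A * X).trace • X - (A * Y).trace • Y -
      (A * (X * Y)).trace • (X * Y) := by
  have a1 := h.trace_mul h2
  have a2 : ∀ Z, X * (X * Z) = -Z := fun Z => by rw [← mul_assoc, h.l]; simp
  have a3 : ∀ Z, Y * (Y * Z) = -Z := fun Z => by rw [← mul_assoc, h.r]; simp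
  have a4 : ∀ Z, Y * (X * Z) = -(X * (Y * Z)) := fun Z => by rw [← mul_assoc, h.anti]; simp [mul_assoc]
  rw [← sub_eq_zero]
  set B := (2 : F) • A - _ with hB
  have b0 : B.trace = 0 := by simp [hB, a1, h.tl, h.tr]; ring
  have b1 := anti_of_trace b0 h.tl (by
    simp [hB, sub_mul, mul_assoc, h.l, h.anti, a1, a2, h.tl, h.tr]; ring)
  have b2 := anti_of_trace b0 h.tr (by simp [hB, sub_mul, mul_assoc, h.r, a1, h.tl, h.tr]; ring)
  have b3 := anti_of_trace b0 a1 (by
    simp [hB, sub_mul, mul_assoc, h.l, h.r, a1, a2, a3, a4, h.tl, h.tr]; ring)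
  clear_value B
  have b4 : X * (Y * B) = 0 := by
    rw [← mul_assoc, b1, neg_mul, mul_assoc, b2, mul_neg, neg_neg, mul_assoc, eq_neg_iff_add_eq_zero,
      ← two_smul F] at b3
    simpa [h2] using b3
  simpa [a2, a3] using congrArg (fun Z => Y * (X * Z)) b4

omit h2 in
theorem QP.conj (h : QP X Y) (P : GL (Fin 2) F) : QP (P.1 * X * P⁻¹.1) (P.1 * Y * P⁻¹.1) := by
  have a : ∀ A B : Matrix (Fin 2) (Fin 2) F, P.1 * A * P⁻¹.1 * (P.1 * B * P⁻¹.1) = P.1 * (A * B) * P⁻¹.1 :=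
    fun A B => by simp [mul_assoc]
  exact ⟨by rw [a, h.l]; simp, by rw [a, h.r]; simp, by rw [a, a, h.anti]; simp,
    by rw [trace_mul_cycle]; simp [h.tl], by rw [trace_mul_cycle]; simp [h.tr]⟩

omit h2 in
theorem QP.det_l (h : QP X Y) : X.det = 1 := by
  have := congrFun (congrFun ((mul_self_fin_two X).symm.trans h.l) 0) 0
  simpa [h.tl] using this

omit h2 in
theorem QP.symm (h : QP X Y) : QP Y X := ⟨h.r, h.l, by simp [h.anti], h.tr, h.tl⟩

theorem QP.exists_conj_left (h : QP X Y) (h' : QP X Y') :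
    ∃ P : GL (Fin 2) F, P.1 * X = X * P.1 ∧ P.1 * Y = Y' * P.1 := by
  have a1 : Y' * Y * X = X * (Y' * Y) := by
    rw [mul_assoc, h.anti, mul_neg, ← mul_assoc, h'.anti, neg_mul, neg_neg, mul_assoc]
  have a2 : (Y' * Y).det = 1 := by simp [h.symm.det_l, h'.symm.det_l]
  have a3 : Y' * (Y' * Y) = -Y := by rw [← mul_assoc, h'.r]; simp
  by_cases e : (1 - Y' * Y).det = 0
  · refine ⟨GeneralLinearGroup.mkOfDetNeZero (X * (1 + Y' * Y)) (by
      rw [det_mul, h.det_l, one_mul]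
      generalize Y' * Y = Z at *
      simp [det_fin_two] at e a2 ⊢
      exact fun e' => mul_ne_zero h2 h2 (by linear_combination e + e' - 2 * a2)), ?_, ?_⟩
    · simp [mul_assoc X, add_mul, mul_add, a1]
    · simp [← mul_assoc Y' X, h'.anti, mul_assoc X, add_mul, mul_add, a3, mul_assoc Y', h.r]; abel
  · exact ⟨GeneralLinearGroup.mkOfDetNeZero _ e, by simp [sub_mul, mul_sub, a1],
      by simp [sub_mul, mul_sub, a3, mul_assoc Y', h.r, add_comm]⟩

theorem QP.exists_conj [Finite F] (h : QP X Y) (h' : QP X' Y') :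
    ∃ P : GL (Fin 2) F, P.1 * X * P⁻¹.1 = X' ∧ P.1 * Y * P⁻¹.1 = Y' := by
  obtain ⟨P, hP⟩ := exists_conj_of_trace_eq (g := ⟨X, h.det_l⟩) (h := ⟨X', h'.det_l⟩)
    (by simp [h.tl]; exact fun e => mul_ne_zero h2 h2 (by linear_combination -e)) (by simp [h.tl, h'.tl])
  have a1 : (SpecialLinearGroup.toGL P).1 * X * (SpecialLinearGroup.toGL P)⁻¹.1 = X' := by
    rw [← map_inv]; exact congrArg Subtype.val hP
  obtain ⟨Q, a2, a3⟩ := (a1 ▸ h.conj (SpecialLinearGroup.toGL P)).exists_conj_left h2 h'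
  generalize SpecialLinearGroup.toGL P = R at *
  refine ⟨Q * R, ?_, ?_⟩ <;>
    simp only [Units.val_mul, _root_.mul_inv_rev, ← mul_assoc, Units.mul_inv_eq_iff_eq_mul]
  · rw [← a2, ← a1]; simp [mul_assoc]
  · rw [← a3]; simp [mul_assoc]

omit h2 in
theorem mem_subPGL {E : Subfield F} {A : GL (Fin 2) F} {c : F} (hc : c ≠ 0)
    (h : c • A.1 ∈ E.toSubring.matrix) : ProjGenLinGroup.mk A ∈ subPGL E := by
  let B : Matrix (Fin 2) (Fin 2) E := of fun i j => ⟨_, h i j⟩
  have a1 : E.subtype.mapMatrix B = c • A.1 := rfl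
  refine ⟨ProjGenLinGroup.mk (GeneralLinearGroup.mkOfDetNeZero B fun e => ?_), ?_⟩
  · have := E.subtype.map_det B
    rw [e, a1, det_smul, map_zero] at this
    exact mul_ne_zero (pow_ne_zero _ hc) A.det_ne_zero this.symm
  · rw [ProjGenLinGroup.map_mk, eq_comm, ProjGenLinGroup.mk_eq_mk_iff]
    exact ⟨Units.mk0 c hc, Units.ext (by ext i j; simp [mul_comm, B])⟩

omit h2 in
theorem smul_mem_matrix {E : Subfield F} {A : Matrix (Fin 2) (Fin 2) F} {c : F} (hc : c ∈ E)
    (h : A ∈ E.toSubring.matrix) : c • A ∈ E.toSubring.matrix := fun i j => E.mul_mem hc (h i j)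

omit h2 in
theorem trace_mem {E : Subfield F} {A : Matrix (Fin 2) (Fin 2) F}
    (h : A ∈ E.toSubring.matrix) : A.trace ∈ E := by
  rw [trace_fin_two]; exact E.add_mem (h 0 0) (h 1 1)

theorem QP.mem_of_conj {E : Subfield F} (h : QP X Y) (hX : X ∈ E.toSubring.matrix)
    (hY : Y ∈ E.toSubring.matrix) {G : GL (Fin 2) F} (h1 : G.1 * X * G⁻¹.1 ∈ E.toSubring.matrix)
    (h3 : G.1 * Y * G⁻¹.1 ∈ E.toSubring.matrix) : ProjGenLinGroup.mk G ∈ subPGL E := by
  obtain ⟨j, l, a1⟩ : ∃ j l, G⁻¹.1 j l ≠ 0 := by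
    by_contra! e; exact G⁻¹.ne_zero (by ext; simp [e])
  refine mem_subPGL (mul_ne_zero h2 a1) fun k i => ?_
  have a2 : single i j (1 : F) ∈ E.toSubring.matrix := fun a b => by
    rw [single_apply]; split_ifs <;> simp
  have a3 := congrArg (fun Z => G.1 * Z * G⁻¹.1) (h.expand h2 (single i j 1))
  have a4 : G.1 * (X * Y) * G⁻¹.1 = G.1 * X * G⁻¹.1 * (G.1 * Y * G⁻¹.1) := by simp [mul_assoc]
  simp only [mul_sub, sub_mul, Matrix.mul_smul, Matrix.smul_mul, mul_one, Units.mul_inv, a4] at a3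
  have a5 := (a3 ▸ sub_mem (sub_mem (sub_mem (smul_mem_matrix (trace_mem a2) (one_mem _))
    (smul_mem_matrix (trace_mem (mul_mem a2 hX)) h1)) (smul_mem_matrix (trace_mem (mul_mem a2 hY)) h3))
    (smul_mem_matrix (trace_mem (mul_mem a2 (mul_mem hX hY))) (mul_mem h1 h3))) k l
  convert a5 using 1
  simp [mul_apply, single_apply, ite_and]; ring

theorem exists_QP [Finite F] (E : Subfield F) :
    ∃ X Y, QP X Y ∧ X ∈ E.toSubring.matrix ∧ Y ∈ E.toSubring.matrix := by
  have := Fintype.ofFinite E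
  obtain ⟨a, b, h⟩ := FiniteField.exists_root_sum_quadratic (R := E) (f := Polynomial.X ^ 2 + 1)
    (g := Polynomial.X ^ 2) (Polynomial.degree_X_pow_add_C two_pos 1) (Polynomial.degree_X_pow 2) (by
      rw [← Nat.odd_iff, ← Nat.not_even_iff_odd, Nat.even_iff, ← FiniteField.even_card_iff_char_two]
      exact fun e => h2 (congrArg Subtype.val (show ((2 : ℕ) : E) = 0 from e ▸ ringChar.Nat.cast_ringChar)))
  have h' := congrArg Subtype.val h
  simp at h'
  refine ⟨!![0, -1; 1, 0], !![a, b; b, -a], ⟨?_, ?_, ?_, by simp, by simp⟩, fun i j => ?_, fun i j => ?_⟩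
  all_goals try ext i j
  all_goals fin_cases i <;> fin_cases j <;> simp <;> grind

end Cfsg.Agent.H12
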