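import Mathlib
import Cfsg.Agent.H12.PMa

/-! Four-groups and dihedral subgroups of `PGL₂(q)`. -/

set_option autoImplicit false

namespace Cfsg.Agent.H12

open Matrix MulAction ProjGenLinGroup
open scoped MatrixGroups LinearAlgebra.Projectivization Pointwise

variable {F : Type*} [Field F]

local notation "pm" => ProjGenLinGroup.mk
local notation "tg" => SpecialLinearGroup.toGL
local notation "tp" => ProjectiveSpecialLinearGroup.toPGL
local notation "tp_inj" => ProjectiveSpecialLinearGroup.toPGL_injective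

/-- The image of `SL₂` in `PGL₂`. -/
abbrev LL (F : Type*) [Field F] : Subgroup PGL(2, F) :=
  (tp : PSL(2, F) →* PGL(2, F)).range

theorem mem_LL {g : PGL(2, F)} : g ∈ LL F ↔ ∃ A : SL(2, F), pm (tg A) = g :=
  ⟨fun ⟨a, h⟩ => by obtain ⟨A, rfl⟩ := QuotientGroup.mk_surjective a; exact ⟨A, h⟩,
    fun ⟨A, h⟩ => ⟨A, h⟩⟩

instance normal_LL : (LL F).Normal := ⟨fun a ha g => by
  obtain ⟨A, rfl⟩ := mem_LL.mp ha
  obtain ⟨G, rfl⟩ := mk_surjective g
  exact mem_LL.mpr ⟨⟨G.1 * A.1 * G⁻¹.1, by simp [mul_right_comm, G.det_ne_zero]⟩, by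
    rw [← map_inv, ← map_mul, ← map_mul]; exact congrArg pm (Units.ext rfl)⟩⟩

theorem sq_mem_LL (g : PGL(2, F)) : g * g ∈ LL F := by
  obtain ⟨G, rfl⟩ := mk_surjective g
  rw [← map_mul]
  exact mem_range_toPGL_of_det (c := G.1.det⁻¹) (by simp; field_simp [G.det_ne_zero])

theorem eq_or_neg_of_mk {A B : GL (Fin 2) F} (h : pm A = pm B) (hd : A.1.det = B.1.det) :
    A.1 = B.1 ∨ A.1 = -B.1 := by
  obtain ⟨u, rfl⟩ := mk_eq_mk_iff.mp h
  have a1 : (A * GeneralLinearGroup.scalar (Fin 2) u).1 = u.1 • A.1 := by ext; simp [mul_comm]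
  rw [a1, det_smul, Fintype.card_fin, eq_comm, mul_eq_right₀ A.det_ne_zero, sq_eq_one_iff] at hd
  rcases hd with e | e <;> simp [a1, e]

/-- A pair of distinct commuting involutions in the image of `SL₂`. -/
structure KP (x y : PGL(2, F)) : Prop where
  ml : x ∈ LL F
  mr : y ∈ LL F
  ol : orderOf x = 2
  or : orderOf y = 2
  ne : x ≠ y
  comm : y * x = x * y

variable {x y x' y' : PGL(2, F)}

theorem KP.sql (h : KP x y) : x * x = 1 := by rw [← sq]; exact orderOf_dvd_iff_pow_eq_one.mp h.ol.dvd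

theorem KP.sqr (h : KP x y) : y * y = 1 := by rw [← sq]; exact orderOf_dvd_iff_pow_eq_one.mp h.or.dvd

theorem KP.mul_ne (h : KP x y) : x * y ≠ x := fun e => by simpa [mul_eq_left.mp e] using h.or

theorem KP.rot (h : KP x y) : KP (x * y) x :=
  ⟨mul_mem h.ml h.mr, h.ml, orderOf_eq_prime (by
      rw [sq, mul_assoc, ← mul_assoc y, h.comm, mul_assoc, h.sqr, mul_one, h.sql])
    fun e => h.ne (mul_left_cancel (h.sql.trans e.symm)), h.ol, h.mul_ne, by rw [mul_assoc, h.comm]⟩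

variable (h2 : (2 : F) ≠ 0)
include h2

theorem KP.lift (h : KP x y) : ∃ X Y : SL(2, F), QP X.1 Y.1 ∧ pm (tg X) = x ∧
    pm (tg Y) = y := by
  obtain ⟨⟨x, rfl⟩, ⟨y, rfl⟩, a1, a2, a3, a4⟩ := h
  rw [orderOf_injective _ tp_inj] at a1 a2
  obtain ⟨X, b1, rfl⟩ := exists_lift_invol h2 a1
  obtain ⟨Y, b2, rfl⟩ := exists_lift_invol h2 a2
  refine ⟨X, Y, ⟨congrArg Subtype.val b1, congrArg Subtype.val b2, ?_, sl2_trace_of_mul_self b1,
    sl2_trace_of_mul_self b2⟩, rfl, rfl⟩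
  rw [← map_mul, ← map_mul, (tp_inj).eq_iff, ← QuotientGroup.mk_mul,
    ← QuotientGroup.mk_mul, psl2_mk_eq_mk_iff] at a4
  refine congrArg Subtype.val (a4.resolve_left fun e => a3 (congrArg _ ?_))
  rcases eq_or_eq_inv_of_commute (trace_sq_ne_four_of_mul_self h2 b1) rfl e
    (by rw [sl2_trace_of_mul_self b1, sl2_trace_of_mul_self b2]) with e | e
  · rw [e]
  · rw [e, QuotientGroup.mk_inv, eq_inv_iff_mul_eq_one, ← sq]
    exact orderOf_dvd_iff_pow_eq_one.mp a1.dvd

theorem KP.of_QP {X Y : GL (Fin 2) F} (h : QP X.1 Y.1) : KP (pm X) (pm Y) := by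
  have a0 : ∀ {Z : GL (Fin 2) F}, Z.1 = -1 → pm Z = 1 := fun {Z} e => by
    rw [← mk_scalar (n := Fin 2) (-1 : Fˣ)]; congr 1; ext; simp [e, diagonal_apply, one_apply]; split_ifs <;> simp
  have a1 : ∀ {X Y : GL (Fin 2) F}, QP X.1 Y.1 → orderOf (pm X) = 2 := fun {X Y} h =>
    orderOf_eq_prime (by rw [sq, ← map_mul, a0 h.l]) fun e => by
      rcases eq_or_neg_of_mk (B := 1) e (by simp [h.det_l]) with e | e <;>
        simpa [e, ← two_mul, trace_fin_two, h2, ← neg_add] using h.tl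
  refine ⟨mem_LL.mpr ⟨⟨_, h.det_l⟩, congrArg pm (Units.ext rfl)⟩,
    mem_LL.mpr ⟨⟨_, h.symm.det_l⟩, congrArg pm (Units.ext rfl)⟩, a1 h, a1 h.symm, fun e => ?_, ?_⟩
  · have := h.trace_mul h2
    rcases eq_or_neg_of_mk e (by rw [h.det_l, h.symm.det_l]) with e | e <;>
      simp [e, h.r, h2] at this
  · rw [← mul_inv_eq_one, ← map_mul, ← map_mul, ← map_inv, ← map_mul]
    exact a0 (by rw [Units.val_mul, Units.val_mul, h.anti, ← Units.val_mul, neg_mul, Units.mul_inv])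

variable [Finite F]

theorem KP.exists_conj (h : KP x y) (h' : KP x' y') : ∃ P, P * x * P⁻¹ = x' ∧ P * y * P⁻¹ = y' := by
  obtain ⟨X, Y, a1, rfl, rfl⟩ := h.lift h2
  obtain ⟨X', Y', a2, rfl, rfl⟩ := h'.lift h2
  obtain ⟨P, b1, b2⟩ := a1.exists_conj h2 a2
  refine ⟨pm P, ?_, ?_⟩ <;> rw [← map_inv, ← map_mul, ← map_mul] <;> exact congrArg pm (Units.ext ‹_›)

theorem KP.exists_rot (h : KP x y) : ∃ P ∈ LL F, P * x * P⁻¹ = y ∧ P * y * P⁻¹ = x * y := by
  obtain ⟨P, a1, a2⟩ := h.exists_conj h2 h.rot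
  have a3 : ∀ z, P * P * z * (P * P)⁻¹ = P * (P * z * P⁻¹) * P⁻¹ := fun z => by group
  refine ⟨P * P, sq_mem_LL P, ?_, by rw [a3, a2, a1]⟩
  rw [a3, a1, show P * (x * y) * P⁻¹ = P * x * P⁻¹ * (P * y * P⁻¹) by group, a1, a2, mul_assoc, h.comm,
    ← mul_assoc, h.sql, one_mul]

theorem KP.not_le (h : KP x y) (h4 : 4 ≤ Nat.card F) :
    ¬ LL F ≤ Subgroup.normalizer ({x, y, x * y} : Set _) := fun H => by
  obtain ⟨P, ⟨P, rfl⟩, a1, -⟩ := h.exists_rot h2
  obtain ⟨x, rfl⟩ := h.ml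
  have := ProjectiveSpecialLinearGroup.rank_two_simple h4
  have a2 := (Subgroup.normalClosure_normal (s := {x})).eq_bot_or_eq_top.resolve_left fun e => by
    have := e ▸ Subgroup.subset_normalClosure (s := {x}) rfl
    simpa [show x = 1 from this] using h.ol
  have a3 : Subgroup.normalClosure {x} ≤ (Subgroup.centralizer {tp x}).comap
      tp := (Subgroup.closure_le _).mpr fun z hz => by
    obtain ⟨_, e, hz⟩ := Group.mem_conjugatesOfSet_iff.mp hz
    rw [show _ = x from e] at hz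
    obtain ⟨g, rfl⟩ := isConj_iff.mp hz
    have := (H ⟨g, rfl⟩ _).mp (Set.mem_insert _ _)
    rw [SetLike.mem_coe, Subgroup.mem_comap, Subgroup.mem_centralizer_singleton_iff, map_mul, map_mul, map_inv]
    rcases this with e | e | e <;> rw [e]
    · exact h.comm
    · rw [mul_assoc, h.comm]
  exact h.ne (by rw [← a1, Subgroup.mem_centralizer_singleton_iff.mp (a3 (a2 ▸ Subgroup.mem_top P))]; simp)

theorem KP.exists_sub (h : KP x y) (E : Subfield F) : ∃ k : PGL(2, F),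
    Subgroup.normalizer ({x, y, x * y} : Set _) ≤ MulAut.conj k • subPGL E ∧
    ∀ M ≤ LL F, x ∈ M → y ∈ M → (∀ A : SL(2, F), pm (tg A) ∈ M → A.1.trace ∈ E) →
      M ≤ MulAut.conj k • subPGL E := by
  obtain ⟨X, Y, a1, rfl, rfl⟩ := h.lift h2
  obtain ⟨X₀, Y₀, a2, a3, a4⟩ := exists_QP h2 E
  obtain ⟨P, b1, b2⟩ := a1.exists_conj h2 a2
  have b3 : ∀ A A' : Matrix (Fin 2) (Fin 2) F, P.1 * (A * A') * P⁻¹.1 = P.1 * A * P⁻¹.1 * (P.1 * A' * P⁻¹.1) :=
    fun A A' => by simp [mul_assoc]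
  refine ⟨(pm P)⁻¹, fun g hg => ?_, fun M hM hx hy H g hg => ?_⟩
  · obtain ⟨G, rfl⟩ := mk_surjective g
    have key : ∀ Z : SL(2, F), pm (tg Z) ∈ ({pm (tg X),
        pm (tg Y), pm (tg X) * pm (tg Y)} : Set _) →
        (P * G * P⁻¹).1 * (P.1 * Z.1 * P⁻¹.1) * (P * G * P⁻¹)⁻¹.1 ∈ E.toSubring.matrix := fun Z hZ => by
      have c1 := (hg _).mp hZ
      rw [← map_inv, ← map_mul, ← map_mul, ← map_mul, ← map_mul] at c1
      have c2 : ∀ T : SL(2, F), P.1 * T.1 * P⁻¹.1 ∈ E.toSubring.matrix →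
          pm (G * tg Z * G⁻¹) = pm (tg T) →
          P.1 * (G * tg Z * G⁻¹).1 * P⁻¹.1 ∈ E.toSubring.matrix := fun T a b => by
        rcases eq_or_neg_of_mk b (by simp [mul_right_comm, G.det_ne_zero]) with e | e <;> rw [e]
        · exact a
        · simpa using neg_mem a
      rw [show (P * G * P⁻¹).1 * (P.1 * Z.1 * P⁻¹.1) * (P * G * P⁻¹)⁻¹.1 = P.1 * (G * tg Z * G⁻¹).1 * P⁻¹.1 by
        simp [mul_assoc]]
      rcases c1 with e | e | e
      exacts [c2 X (b1 ▸ a3) e, c2 Y (b2 ▸ a4) e,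
        c2 (X * Y) (by rw [show (X * Y).1 = X.1 * Y.1 from rfl, b3, b1, b2]; exact mul_mem a3 a4) e]
    rw [mem_conj_inv_smul, ← map_inv, ← map_mul, ← map_mul]
    exact a2.mem_of_conj h2 a3 a4 (b1 ▸ key X (by simp)) (b2 ▸ key Y (by simp))
  · obtain ⟨A, rfl⟩ := mem_LL.mp (hM hg)
    rw [mem_conj_inv_smul, ← map_inv, ← map_mul, ← map_mul]
    have c1 : ∀ T : SL(2, F), pm (tg T) ∈ M →
        (P.1 * A.1 * P⁻¹.1 * (P.1 * T.1 * P⁻¹.1)).trace ∈ E := fun T hT => by
      rw [← b3, trace_mul_cycle]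
      simpa using H (A * T) (by simpa using mul_mem hg hT)
    refine mem_subPGL h2 ?_
    change (2 : F) • (P.1 * A.1 * P⁻¹.1) ∈ _
    rw [a2.expand h2]
    exact sub_mem (sub_mem (sub_mem (smul_mem_matrix (by simpa using c1 1 (by simp)) (one_mem _))
      (smul_mem_matrix (b1 ▸ c1 X hx) a3)) (smul_mem_matrix (b2 ▸ c1 Y hy) a4)) (smul_mem_matrix (by
        rw [← b1, ← b2, ← b3]; exact c1 (X * Y) (by simpa using mul_mem hx hy)) (mul_mem a3 a4))

omit h2 [Finite F]

theorem gl_smul_eq_iff {g : GL (Fin 2) F} {z : P1 F} : g • z = z ↔ ∃ l : F, g.1 *ᵥ z.rep = l • z.rep := by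
  conv_lhs => rw [← z.mk_rep, Projectivization.smul_mk, Projectivization.mk_eq_mk_iff']
  exact exists_congr fun _ => eq_comm

theorem exists_inverts (A : GL (Fin 2) F) (h : pm A ≠ 1) :
    ∃ W : GL (Fin 2) F, W.1 * A.1 = (A.1.trace • (1 : Matrix _ _ F) - A.1) * W.1 := by
  by_cases h1 : A 1 0 = 0
  · by_cases h2 : A 0 1 = 0
    · exact ⟨mkGL2 0 1 (-1) 0 (by simp), by
        ext i j; fin_cases i <;> fin_cases j <;> simp [mul_apply, trace_fin_two, h1, h2]⟩
    · exact ⟨mkGL2 (A 0 1) 0 (A 1 1 - A 0 0) (-A 0 1) (by simpa), by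
        ext i j; fin_cases i <;> fin_cases j <;> simp [mul_apply, trace_fin_two] <;> ring⟩
  · exact ⟨mkGL2 (-A 1 0) (A 0 0 - A 1 1) 0 (A 1 0) (by simpa), by
      ext i j; fin_cases i <;> fin_cases j <;> simp [mul_apply, trace_fin_two] <;> ring⟩

theorem pow_char_of_fix (p : ℕ) [Fact p.Prime] [CharP F p] {A W : GL (Fin 2) F} {z : P1 F}
    (h : W.1 * A.1 = (A.1.trace • (1 : Matrix _ _ F) - A.1) * W.1) (h1 : A • z = z) (h3 : W • z = z) :
    pm A ^ p = 1 := by
  obtain ⟨l, h1⟩ := gl_smul_eq_iff.mp h1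
  obtain ⟨m, h3⟩ := gl_smul_eq_iff.mp h3
  have a0 := z.rep_nonzero
  have a1 : m ≠ 0 := by
    rintro rfl; exact a0 (by simpa [mulVec_mulVec, -mulVec_fin_two] using congrArg (W⁻¹.1 *ᵥ ·) h3)
  have a2 := congrArg (· *ᵥ z.rep) h
  have a3 := congrArg (· *ᵥ z.rep) (mul_self_fin_two A.1)
  simp only [← mulVec_mulVec, h1, h3, mulVec_smul, sub_mulVec, smul_mulVec, one_mulVec, smul_smul,
    ← sub_smul] at a2 a3
  have a4 := smul_left_injective F a0 a2
  have a5 := smul_left_injective F a0 a3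
  have a6 : A.1.trace = 2 * l := mul_left_cancel₀ a1 (by linear_combination -a4)
  have a7 : A.1.det = l * l := by linear_combination a5 + l * a6
  have a8 : (A.1 - l • 1) ^ 2 = 0 := by
    simp [sq, sub_mul, mul_sub, mul_self_fin_two, a6, a7, smul_smul]; module
  have a9 := pow_eq_zero_of_le (Fact.out : p.Prime).two_le a8
  rw [sub_pow_char_of_commute _ ((Commute.one_right _).smul_right _), sub_eq_zero] at a9
  rw [← map_pow, mk_eq_one, Subgroup.mem_center_iff]
  exact fun g => Units.ext (by simp [a9, smul_pow])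

theorem ne_smul_one {A : GL (Fin 2) F} (h : pm A ≠ 1) (c : F) : A.1 ≠ c • 1 := fun e => h (by
  rw [mk_eq_one, Subgroup.mem_center_iff]; exact fun g => Units.ext (by simp [e]))

theorem card_le_of_shift [Finite F] {A : GL (Fin 2) F} (h : pm A ≠ 1) {T : Subgroup PGL(2, F)}
    (H : ∀ (c : F) (B : GL (Fin 2) F), B.1 = A.1 + c • 1 → pm B ∈ T) : Nat.card F - 1 ≤ Nat.card T := by
  classical
  have := Fintype.ofFinite F
  let f : Polynomial F := Polynomial.X ^ 2 + Polynomial.C A.1.trace * Polynomial.X + Polynomial.C A.1.det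
  have a0 : f.degree = 2 := by simpa [f] using Polynomial.degree_quadratic (a := (1 : F)) one_ne_zero
  have a1 : ∀ c : {c // c ∉ f.roots.toFinset}, (A.1 + c.1 • 1).det ≠ 0 := fun ⟨c, hc⟩ e => hc (by
    rw [Multiset.mem_toFinset, Polynomial.mem_roots (by rintro e; simp [e] at a0)]
    simp [f, det_fin_two, trace_fin_two] at e ⊢; linear_combination e)
  have a2 : _ ≤ 2 := (Multiset.toFinset_card_le _).trans ((Polynomial.card_roots' f).trans
    (Polynomial.natDegree_eq_of_degree_eq_some a0).le)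
  have a3 := Nat.card_le_card_of_injective (fun c : Option {c // c ∉ f.roots.toFinset} => (c.rec ⟨1, one_mem _⟩
    fun c => ⟨pm (GeneralLinearGroup.mkOfDetNeZero _ (a1 c)), H c _ rfl⟩ : T)) (by
      have b1 : ∀ c, pm (GeneralLinearGroup.mkOfDetNeZero _ (a1 c)) ≠ 1 := fun c e => by
        obtain ⟨u, e⟩ := mk_eq_mk_iff.mp (show pm 1 = _ from e.symm)
        exact ne_smul_one h (u - c) (by
          rw [sub_smul, eq_sub_iff_add_eq]; exact (congrArg Units.val e).symm.trans (by simp [smul_one_eq_diagonal]))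
      rintro (_ | c) (_ | c') e <;> replace e := congrArg Subtype.val e
      · rfl
      · exact absurd e.symm (b1 _)
      · exact absurd e (b1 _)
      obtain ⟨u, e⟩ := mk_eq_mk_iff.mp e
      have b2 : u.1 • (A.1 + c.1 • 1) = A.1 + c'.1 • 1 :=
        Eq.trans (by ext; simp [mul_comm]) (congrArg Units.val e)
      by_cases b3 : u.1 = 1
      · simpa [b3, Subtype.ext_iff] using congrFun (congrFun b2 0) 0
      · exact absurd (by
          rw [mul_smul, eq_inv_smul_iff₀ (sub_ne_zero.mpr b3)]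
          linear_combination (norm := module) b2) (ne_smul_one h ((u.1 - 1)⁻¹ * (c'.1 - u * c))))
  rw [Nat.card_eq_fintype_card, Fintype.card_option, Fintype.card_subtype_compl, Fintype.card_coe] at a3
  rw [Nat.card_eq_fintype_card]
  omega

theorem exists_dih [Fintype F] (p : ℕ) [Fact p.Prime] [CharP F p] (h4 : 4 ≤ Fintype.card F)
    {a : PGL(2, F)} (h1 : a ≠ 1) (hp : ¬ p ∣ orderOf a) : ∃ D b s, IsDihedralPair D b s ∧
      (orderOf b = Fintype.card F - 1 ∨ orderOf b = Fintype.card F + 1) ∧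
      ∀ g, g * a * g⁻¹ ∈ Subgroup.zpowers a → g ∈ D := by
  let ι := algebraMap F (AlgebraicClosure F)
  let φ := ProjGenLinGroup.map (n := Fin 2) ι
  have hφ : Function.Injective φ := pgl2_map_injective ι
  have a0 : φ a ^ p ≠ 1 := fun e => by
    rw [← map_pow, map_eq_one_iff _ hφ] at e
    exact hp (orderOf_eq_prime e h1).symm.dvd
  obtain ⟨x, hx⟩ := exists_fixed_point (φ a)
  obtain ⟨y, hxy, a1⟩ := exists_fixedBy_of_not_mem_unip hx fun e => a0 ((mem_unip_iff p).mp e).2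
  have hy : φ a • y = y := (a1.ge (by simp) : y ∈ fixedBy _ _)
  let D := (stabilizer PGL(2, AlgebraicClosure F) ({x, y} : Set _)).comap φ
  have a2 : ∀ g, g * a * g⁻¹ ∈ Subgroup.zpowers a → g ∈ D := fun g ⟨k, hk⟩ => by
    have b1 : ∀ z, φ a • z = z → φ g • z = x ∨ φ g • z = y := fun z hz => by
      by_contra! e
      refine h1 ?_
      have := pgl_eq_one_of_fix (g := φ (g * a * g⁻¹)) hxy e.1.symm e.2.symm
        (by rw [← hk, map_zpow]; exact fixedBy_subset_fixedBy_zpow _ _ k hx)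
        (by rw [← hk, map_zpow]; exact fixedBy_subset_fixedBy_zpow _ _ k hy) (by simp [mul_smul, hz])
      simpa [map_eq_one_iff _ hφ, -map_mul] using this
    have b2 : φ g • x ≠ φ g • y := fun e => hxy (smul_left_cancel _ e)
    change φ g • ({x, y} : Set _) = {x, y}
    rw [Set.smul_set_insert, Set.smul_set_singleton]
    rcases b1 x hx with e | e <;> rcases b1 y hy with e' | e' <;> simp_all [Set.pair_comm]
  obtain ⟨A, rfl⟩ := mk_surjective a
  obtain ⟨W, hW⟩ := exists_inverts A h1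
  have a3 : pm W ∈ D := a2 _ ⟨-1, by
    rw [eq_mul_inv_iff_mul_eq]
    simp only [_root_.zpow_neg_one]
    rw [← map_inv, ← map_mul, ← map_mul, mk_eq_mk_iff]
    refine ⟨Units.mk0 _ A.det_ne_zero, mul_left_cancel (a := A) (Units.ext ?_)⟩
    simp [← smul_one_eq_diagonal]
    simp [hW, ← mul_assoc, mul_sub, mul_self_fin_two]⟩
  have a4 : ∀ g ∈ D, φ g • x = x ∨ φ g • x = y := fun g hg =>
    (show φ g • ({x, y} : Set _) = {x, y} from hg).le (Set.smul_mem_smul_set (by simp))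
  have : Finite (D.map φ) := Finite.of_equiv _ (D.equivMapOfInjective φ hφ).toEquiv
  obtain ⟨_, _, b1, b2, b3, -, b4⟩ := dickson_orbit_two p (D.map φ) hxy (by
    refine Set.Subset.antisymm (by rintro _ ⟨⟨_, g, hg, rfl⟩, rfl⟩; exact a4 g hg) ?_
    rintro _ (rfl | rfl)
    · exact mem_orbit_self _
    refine ⟨⟨_, _, a3, rfl⟩, (a4 _ a3).resolve_left fun e => a0 (pow_char_of_fix p
      (W := GeneralLinearGroup.map ι W) ?_ hx e)⟩
    have := congrArg ι.mapMatrix hW
    simp only [map_mul, map_sub] at this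
    refine this.trans (congrArg (· * _) (congrArg (· - _) ?_))
    ext i j; simp [trace_fin_two, one_apply, apply_ite ι])
  obtain ⟨b, s, rfl, rfl, b5⟩ := b1.of_map hφ
  rw [orderOf_injective _ hφ] at b2
  refine ⟨D, b, s, b5, ?_, a2⟩
  have c1 := card_le_of_shift h1 (T := Subgroup.zpowers b) fun c B hB => by
    have d1 : φ (pm B) • x = x := by
      obtain ⟨l, hl⟩ := gl_smul_eq_iff.mp hx
      refine gl_smul_eq_iff.mpr ⟨l + ι c, ?_⟩
      have : (GeneralLinearGroup.map ι B).1 = (GeneralLinearGroup.map ι A).1 + ι c • 1 := by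
        ext i j; simp [hB, one_apply, apply_ite ι]
      rw [this, add_mulVec, hl, smul_mulVec, one_mulVec, add_smul]
    obtain ⟨k, e | e⟩ := b5.mem_iff.mp (a2 (pm B) ⟨1, by
      rw [eq_mul_inv_iff_mul_eq]
      simp only [zpow_one]
      rw [← map_mul, ← map_mul]
      exact congrArg pm (Units.ext (by simp [hB, mul_add, add_mul]))⟩)
    · exact ⟨k, e.symm⟩
    · rw [e, map_mul, mul_smul, map_zpow, show φ b ^ k • x = x from fixedBy_subset_fixedBy_zpow _ _ k b3,
        b4] at d1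
      exact absurd d1.symm hxy
  rw [Nat.card_zpowers, Nat.card_eq_fintype_card] at c1
  rcases pgl2_orderOf_dvd p b2 with e | ⟨k, e⟩
  · exact Or.inl ((Nat.le_of_dvd (by omega) e).antisymm c1)
  · right
    obtain rfl | hk : k = 1 ∨ 2 ≤ k := by rcases k with _ | _ | k <;> omega
    · omega
    · nlinarith [Nat.sub_add_cancel (show 1 ≤ Fintype.card F by omega)]

end Cfsg.Agent.H12
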