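import Mathlib
import Cfsg.Agent.H12.PMb

/-! Maximal subgroups of `PSL₂(q)` and `PGL₂(q)`: the list. -/

set_option autoImplicit false

namespace Cfsg.Agent.H12

open Matrix MulAction ProjGenLinGroup
open scoped MatrixGroups LinearAlgebra.Projectivization Pointwise

variable {F : Type*} [Field F]

local notation "pm" => ProjGenLinGroup.mk
local notation "tg" => SpecialLinearGroup.toGL
local notation "tp" => ProjectiveSpecialLinearGroup.toPGL
local notation "tp_inj" => ProjectiveSpecialLinearGroup.toPGL_injective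

theorem mem_LL_of_odd {g : PGL(2, F)} {k : ℕ} (h : g ^ (2 * k + 1) = 1) : g ∈ LL F := by
  convert sq_mem_LL (g ^ (k + 1))
  rw [← pow_add, show k + 1 + (k + 1) = 2 * k + 1 + 1 by ring, pow_succ, h, one_mul]

theorem le_LL_of_gen {M : Subgroup PGL(2, F)} {G : Type*} [Group G] (e : M ≃* G) {a b : G} {k : ℕ}
    (h : Subgroup.closure {a, b} = ⊤) (h1 : b ^ 3 = 1) (h2 : (a * b) ^ (2 * k + 1) = 1) : M ≤ LL F := by
  let f := M.subtype.comp e.symm.toMonoidHom
  have a1 : f b ∈ LL F := mem_LL_of_odd (k := 1) (by rw [← map_pow, h1, map_one])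
  have a2 : f (a * b) ∈ LL F := mem_LL_of_odd (by rw [← map_pow, h2, map_one])
  have : Subgroup.closure {a, b} ≤ (LL F).comap f := (Subgroup.closure_le _).mpr (by
    rintro _ (rfl | rfl)
    exacts [by simpa using mul_mem a2 (inv_mem a1), a1])
  exact fun g hg => (show f (e ⟨g, hg⟩) = g by simp [f]) ▸ this (h ▸ Subgroup.mem_top (e ⟨g, hg⟩))

theorem exists_KP {M : Subgroup PGL(2, F)} {G : Type*} [Group G] (e : M ≃* G) {x y : G}
    (h1 : x ^ 2 = 1 ∧ x ≠ 1 ∧ y ^ 2 = 1 ∧ y ≠ 1 ∧ x ≠ y ∧ y * x = x * y ∧ (∃ a b, x = a * a * (b * b)) ∧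
      (∃ a b, y = a * a * (b * b)) ∧ ∀ g, ∀ z ∈ [x, y, x * y], g * z * g⁻¹ ∈ [x, y, x * y]) :
    ∃ x ∈ M, ∃ y ∈ M, KP x y ∧ M ≤ Subgroup.normalizer ({x, y, x * y} : Set _) := by
  obtain ⟨a1, a2, a3, a4, a5, a6, ⟨a, b, a7⟩, ⟨c, d, a8⟩, a9⟩ := h1
  let f := M.subtype.comp e.symm.toMonoidHom
  have hf : Function.Injective f := M.subtype_injective.comp e.symm.injective
  refine ⟨f x, (e.symm x).2, f y, (e.symm y).2, ⟨?_, ?_, ?_, ?_, hf.ne a5, by rw [← map_mul, a6, map_mul]⟩,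
    fun g hg => Subgroup.mem_normalizer_fintype fun z hz => ?_⟩
  · rw [a7, map_mul, map_mul, map_mul]; exact mul_mem (sq_mem_LL _) (sq_mem_LL _)
  · rw [a8, map_mul, map_mul, map_mul]; exact mul_mem (sq_mem_LL _) (sq_mem_LL _)
  · rw [orderOf_injective f hf, orderOf_eq_prime a1 a2]
  · rw [orderOf_injective f hf, orderOf_eq_prime a3 a4]
  · obtain ⟨z, b1, rfl⟩ : ∃ w ∈ [x, y, x * y], f w = z := by
      rcases hz with rfl | rfl | rfl
      exacts [⟨x, by simp, rfl⟩, ⟨y, by simp, rfl⟩, ⟨x * y, by simp, map_mul ..⟩]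
    have := a9 (e ⟨g, hg⟩) z b1
    rw [show g = f (e ⟨g, hg⟩) by simp [f], ← map_inv, ← map_mul, ← map_mul, ← map_mul]
    simpa only [List.mem_cons, List.not_mem_nil, or_false, Set.mem_insert_iff, Set.mem_singleton_iff,
      hf.eq_iff] using this

theorem KP_alt4 {M : Subgroup PGL(2, F)} (e : M ≃* alternatingGroup (Fin 4)) :
    ∃ x ∈ M, ∃ y ∈ M, KP x y ∧ M ≤ Subgroup.normalizer ({x, y, x * y} : Set _) :=
  exists_KP e (x := alt4a) (y := alt4b * alt4a * alt4b⁻¹)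
    (by refine ⟨?_, ?_, ?_, ?_, ?_, ?_, ?_, ?_, ?_⟩ <;> decide +kernel)

theorem KP_perm4 {M : Subgroup PGL(2, F)} (e : M ≃* Equiv.Perm (Fin 4)) :
    ∃ x ∈ M, ∃ y ∈ M, KP x y ∧ M ≤ Subgroup.normalizer ({x, y, x * y} : Set _) :=
  exists_KP e (x := (perm4a * perm4b) ^ 2) (y := perm4b * (perm4a * perm4b) ^ 2 * perm4b⁻¹)
    (by refine ⟨?_, ?_, ?_, ?_, ?_, ?_, ?_, ?_, ?_⟩ <;> decide +kernel)

theorem exists_alt4_le {G : Type*} [Group G] {M : Subgroup G} (e : M ≃* alternatingGroup (Fin 5)) :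
    ∃ Y ≤ M, Nonempty (Y ≃* alternatingGroup (Fin 4)) := by
  let f := M.subtype.comp e.symm.toMonoidHom
  have hf : Function.Injective f := M.subtype_injective.comp e.symm.injective
  let b : alternatingGroup (Fin 5) := ⟨Equiv.swap 0 1 * Equiv.swap 0 2, Equiv.Perm.mem_alternatingGroup.2 (by decide)⟩
  have : alt5a ^ 2 = 1 ∧ b ^ 3 = 1 ∧ (alt5a * b) ^ 3 = 1 ∧ alt5a ≠ 1 := by decide +kernel
  exact ⟨_, (Subgroup.closure_le _).mpr (by rintro _ (rfl | rfl); exacts [(e.symm _).2, (e.symm _).2]),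
    nonempty_closure_equiv_alt4 (a := f alt5a) (b := f b) (by rw [← map_pow, this.1, map_one])
      (by rw [← map_pow, this.2.1, map_one]) (by rw [← map_mul, ← map_pow, this.2.2.1, map_one])
      (by rw [← map_one f]; exact hf.ne this.2.2.2)⟩

theorem trace_alt5 {A : SL(2, F)} (h : pm (tg A) ^ 2 = 1 ∨ pm (tg A) ^ 3 = 1 ∨ pm (tg A) ^ 5 = 1) :
    A.1.trace * (A.1.trace - 2) * (A.1.trace + 2) * (A.1.trace - 1) * (A.1.trace + 1) *
      (A.1.trace ^ 2 + A.1.trace - 1) * ((-A.1.trace) ^ 2 + -A.1.trace - 1) = 0 := by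
  by_cases h4 : A.1.trace ^ 2 = 4
  · linear_combination A.1.trace * (A.1.trace - 1) * (A.1.trace + 1) *
      (A.1.trace ^ 2 + A.1.trace - 1) * ((-A.1.trace) ^ 2 + -A.1.trace - 1) * h4
  let ι := algebraMap F (AlgebraicClosure F)
  obtain ⟨l, hl⟩ := exists_eig ι A
  have a1 := fun n => hl.psl_pow_eq_one_iff h4 (n := n)
  have a2 := sub_ne_zero.mpr (hl.ne_iff'.mp h4)
  simp only [← ProjectiveSpecialLinearGroup.toPGL_mk, ← map_pow, map_eq_one_iff _ tp_inj, a1] at h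
  apply ι.injective
  simp only [map_mul, map_sub, map_add, map_pow, map_neg, map_one, map_ofNat, map_zero, hl.2]
  have a3 := mul_inv_cancel₀ hl.1
  generalize l⁻¹ = m at *
  rcases h with h | h | h
  · have : l + m = 0 := mul_left_cancel₀ (mul_ne_zero hl.1 a2) (by grind)
    simp [this]
  · have : (l + m - 1) * (l + m + 1) = 0 := mul_left_cancel₀ (mul_ne_zero (pow_ne_zero 2 hl.1) a2) (by grind)
    grind
  · have : ((l + m) ^ 2 + (l + m) - 1) * ((-(l + m)) ^ 2 + -(l + m) - 1) = 0 :=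
      mul_left_cancel₀ (mul_ne_zero (pow_ne_zero 4 hl.1) a2) (by grind)
    rw [mul_assoc, this, mul_zero]

theorem subPGL_mono {E E' : Subfield F} (h : E ≤ E') : subPGL E ≤ subPGL E' := by
  rintro _ ⟨g, rfl⟩
  obtain ⟨g, rfl⟩ := mk_surjective g
  exact mem_subPGL one_ne_zero fun i j => h (by simp)

theorem subPSL_le_LL (E : Subfield F) (k : PGL(2, F)) : MulAut.conj k • subPSL E ≤ LL F := by
  rintro _ ⟨_, ⟨g, rfl⟩, rfl⟩
  exact normal_LL.conj_mem _ ⟨_, toPGL_pslMap _ g⟩ k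

theorem LL_le_subPSL (k : PGL(2, F)) : LL F ≤ MulAut.conj k • subPSL (⊤ : Subfield F) := fun g hg => by
  obtain ⟨A, hA⟩ := normal_LL.conj_mem _ hg k⁻¹
  refine ⟨_, ⟨pslMap _ (Subfield.topEquiv (K := F)).symm.toRingHom A, rfl⟩, ?_⟩
  obtain ⟨A, rfl⟩ := QuotientGroup.mk_surjective A
  have : ((ProjGenLinGroup.map (⊤ : Subfield F).subtype).comp tp) (pslMap _ (Subfield.topEquiv (K := F)).symm.toRingHom A) =
    tp (A : PSL(2, F)) := congrArg pm (Units.ext rfl)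
  rw [this, hA]; simp [mul_assoc]

variable [Fintype F]

theorem card_subfield_lt {E : Subfield F} (h : E ≠ ⊤) : Nat.card E < Fintype.card F := by
  rw [← Nat.card_eq_fintype_card]
  by_contra! H
  exact h (SetLike.coe_injective (by
    simpa using Set.eq_of_subset_of_ncard_le (E : Set F).subset_univ (by rwa [Set.ncard_univ])))

theorem exists_max_subfield {E : Subfield F} (h : E ≠ ⊤) :
    ∃ (E' : Subfield F) (r : ℕ), r.Prime ∧ E ≤ E' ∧ Nat.card E' ^ r = Fintype.card F := by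
  obtain ⟨m, h1, h2⟩ := exists_card_subfield_pow E
  rw [Nat.card_eq_fintype_card (α := F)] at h2
  have h3 : m ≠ 1 := by rintro rfl; simpa [← h2] using card_subfield_lt h
  obtain ⟨r, hr, k, rfl⟩ := Nat.exists_prime_and_dvd h3
  have := Fintype.ofFinite E
  obtain ⟨p, hp, n, hpp, hn⟩ := FiniteField.card' E
  have : Fact p.Prime := ⟨hpp⟩
  have h4 := GaloisField.card p (n * k) (mul_ne_zero n.ne_zero (by rintro rfl; simp at h1))
  have := Fintype.ofFinite (GaloisField p (n * k))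
  rw [pow_mul, ← hn, ← Nat.card_eq_fintype_card] at h4
  have h5 : Nat.card (GaloisField p (n * k)) ^ r = Nat.card F := by
    rw [h4, ← pow_mul, mul_comm k r, h2, Nat.card_eq_fintype_card]
  obtain ⟨ι⟩ := nonempty_ringHom_of_card_pow h5
  refine ⟨ι.fieldRange, r, hr, fun x hx => exists_eq_map_of_pow_card ι ?_, by
    rw [← Nat.card_eq_fintype_card, ← h5, Nat.card_congr ι.rangeRestrictFieldEquiv.toEquiv]⟩
  rw [← Nat.card_eq_fintype_card, h4, Nat.card_eq_fintype_card]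
  exact congrArg Subtype.val (FiniteField.pow_card_pow k (⟨x, hx⟩ : E))

theorem card_LL : Nat.gcd 2 (Fintype.card F - 1) * Nat.card (LL F) = Fintype.card F * (Fintype.card F ^ 2 - 1) := by
  rw [← card_PSL2 rfl, Nat.card_congr (MonoidHom.ofInjective tp_inj).toEquiv]

theorem not_LL_le {X : Subgroup PGL(2, F)} (h : 2 * Nat.card X < Fintype.card F * (Fintype.card F ^ 2 - 1)) :
    ¬ LL F ≤ X := fun H => by
  have := Nat.mul_le_mul (Nat.gcd_le_left (Fintype.card F - 1) two_pos) (Subgroup.card_le_of_le H)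
  rw [card_LL] at this; omega

theorem card_subPGL (E : Subfield F) (k : PGL(2, F)) :
    Nat.card (MulAut.conj k • subPGL E : Subgroup _) = Nat.card E * (Nat.card E ^ 2 - 1) := by
  have := Fintype.ofFinite E
  obtain ⟨e⟩ := nonempty_subPGL_equiv E k
  rw [Nat.card_congr e.toEquiv, card_PGL2 rfl, Nat.card_eq_fintype_card]

theorem not_LL_le_subPGL {E : Subfield F} {r : ℕ} (hr : r.Prime) (h : Nat.card E ^ r = Fintype.card F)
    (k : PGL(2, F)) : ¬ LL F ≤ MulAut.conj k • subPGL E := not_LL_le (by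
  have a1 : 1 < Nat.card E := Finite.one_lt_card
  have a2 := Nat.pow_le_pow_right a1.le hr.two_le
  rw [card_subPGL, ← h]
  generalize Nat.card E ^ r = q at *
  obtain ⟨a, ha⟩ : ∃ a, Nat.card E ^ 2 = a + 1 := ⟨_, (Nat.sub_add_cancel (by nlinarith)).symm⟩
  obtain ⟨b, hb⟩ : ∃ b, q ^ 2 = b + 1 := ⟨_, (Nat.sub_add_cancel (by nlinarith)).symm⟩
  rw [ha, hb, Nat.add_sub_cancel, Nat.add_sub_cancel]
  have : 2 * Nat.card E ≤ q := by nlinarith
  exact Nat.mul_lt_mul_of_le_of_lt this (show a < b by nlinarith [Nat.le_self_pow two_ne_zero q]) (by omega)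
    |>.trans_le' (by rw [mul_assoc]))

omit [Fintype F] in
theorem not_LL_le_stabilizer (x : P1 F) : ¬ LL F ≤ stabilizer PGL(2, F) x := fun H => by
  have a1 : ∀ y, y = x := fun y => by
    obtain ⟨g, rfl⟩ := exists_sl_point x
    obtain ⟨h, rfl⟩ := exists_sl_point y
    have := H (mem_LL.mpr ⟨h * g⁻¹, rfl⟩)
    rw [mem_stabilizer_iff, pgl_mk_smul, toGL_smul_proj, mul_smul, inv_smul_smul] at this
    exact this
  exact aff_ne_inf (0 : F) ((a1 _).trans (a1 _).symm)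

/-- `M` is maximal among the subgroups of `G` not containing the image of `SL₂`. -/
structure MP (G M : Subgroup PGL(2, F)) : Prop where
  le : LL F ≤ G
  max : ∀ X, M ≤ X → ¬ LL F ≤ X → M = G ⊓ X
  nle : ¬ LL F ≤ M

/-- The subfield case. -/
def CF' (G M : Subgroup PGL(2, F)) : Prop := ∃ (E : Subfield F) (k : PGL(2, F)) (r : ℕ), r.Prime ∧
  3 ≤ Nat.card E ∧ Nat.card E ^ r = Fintype.card F ∧ M = G ⊓ MulAut.conj k • subPGL E

/-- The dihedral case. -/
def CD' (G M : Subgroup PGL(2, F)) : Prop := ∃ D b s, IsDihedralPair D b s ∧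
  (orderOf b = Fintype.card F - 1 ∨ orderOf b = Fintype.card F + 1) ∧ M = G ⊓ D

variable {G M : Subgroup PGL(2, F)} (p : ℕ) [Fact p.Prime] [CharP F p]

theorem card_eq_of_locus {j : ℕ} (hj : 0 < j)
    (h : (iterateFrobenius F p j).eqLocusField (RingHom.id F) = ⊤) : ∃ n, 1 ≤ n ∧ n ≤ j ∧ Fintype.card F = p ^ n := by
  obtain ⟨n, -, hn⟩ := FiniteField.card F p
  have a0 := (Fact.out : p.Prime).one_lt
  have a1 := Nat.one_lt_pow hj.ne' a0
  have := Nat.le_of_dvd (by omega) ((FiniteField.forall_pow_eq_one_iff F (p ^ j - 1)).mp fun x => by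
    rw [← mul_left_inj x, ← pow_succ, Nat.sub_add_cancel a1.le, one_mul]
    exact Units.ext (h.ge (Subfield.mem_top x.1)))
  exact ⟨n, n.2, (Nat.pow_le_pow_iff_right a0).mp (by omega), hn⟩

theorem MP.cases (h : MP G M) (h4 : 4 ≤ Fintype.card F) :
    (∃ x : P1 F, M = G ⊓ stabilizer _ x) ∨
    CD' G M ∨ CF' G M ∨
    (Fintype.card F = p ∧ (Nonempty (M ≃* alternatingGroup (Fin 4)) ∨ Nonempty (M ≃* Equiv.Perm (Fin 4)))) ∨
    (p ≠ 2 ∧ p ≠ 5 ∧ (Fintype.card F = p ∨ Fintype.card F = p ^ 2 ∧ ¬ 5 ∣ p ^ 2 - 1) ∧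
      Nonempty (M ≃* alternatingGroup (Fin 5))) := by
  have a1 : ∀ x : P1 F, (∀ g ∈ M, g • x = x) → ∃ x : P1 F, M = G ⊓ stabilizer _ x := fun x hx =>
    ⟨x, h.max _ hx (not_LL_le_stabilizer x)⟩
  have a2 : ∀ a, a ≠ 1 → ¬ p ∣ orderOf a → (∀ g ∈ M, g * a * g⁻¹ ∈ Subgroup.zpowers a) →
      CD' G M := fun a b1 b2 b3 => by
    obtain ⟨D, b, s, c1, c2, c3⟩ := exists_dih p h4 b1 b2
    refine ⟨D, b, s, c1, c2, h.max _ (fun g hg => c3 g (b3 g hg)) (not_LL_le ?_)⟩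
    rw [c1.card]
    obtain ⟨a, ha⟩ : ∃ a, Fintype.card F ^ 2 = a + 1 := ⟨_, (Nat.sub_add_cancel (by nlinarith)).symm⟩
    have : orderOf b ≤ Fintype.card F + 1 := by omega
    rw [ha, Nat.add_sub_cancel]; nlinarith
  have a3 : ∀ (E : Subfield F) (k : PGL(2, F)), E ≠ ⊤ → (p ≠ 2 ∨ 3 ≤ Nat.card E) →
      M ≤ MulAut.conj k • subPGL E → CF' G M := fun E k b1 b2 b3 => by
    obtain ⟨E', r, c1, c2, c3⟩ := exists_max_subfield b1
    refine ⟨E', k, r, c1, ?_, c3, h.max _ (b3.trans (Subgroup.pointwise_smul_le_pointwise_smul_iff.mpr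
      (subPGL_mono c2))) (not_LL_le_subPGL c1 c3 k)⟩
    refine b2.elim (fun e => ?_) fun e => e.trans (Nat.card_le_card_of_injective _ (Subfield.inclusion c2).injective)
    have := Fintype.ofFinite E'
    obtain ⟨n, hp, hn⟩ := FiniteField.card E' p
    have := hp.two_le
    exact Nat.card_eq_fintype_card (α := E') ▸ hn ▸ (show 3 ≤ p by omega).trans (Nat.le_self_pow n.ne_zero p)
  have a4 : ∀ a : PGL(2, F), a ^ p = 1 → (∀ g ∈ M, g ∈ Subgroup.zpowers a) →
      ∃ x : P1 F, M = G ⊓ stabilizer _ x := fun a b1 b2 => by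
    obtain ⟨x, hx⟩ := exists_fixed_of_pow_char p (k := 1) (u := a) (by simpa)
    exact a1 x fun g hg => (Subgroup.zpowers_le (H := stabilizer _ x)).mpr hx (b2 g hg)
  have a5 : ∀ a : PGL(2, F), ¬ p ∣ orderOf a ∨ a ^ 2 = 1 → (∀ g ∈ M, g ∈ Subgroup.zpowers a) →
      (∃ x : P1 F, M = G ⊓ stabilizer _ x) ∨ CD' G M := fun a b1 b2 => by
      by_cases e : a ^ p = 1
      · exact Or.inl (a4 a e b2)
      refine Or.inr (a2 a (by rintro rfl; simp at e) (b1.elim id fun b e' => e ?_) fun g hg => by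
        obtain ⟨k, rfl⟩ := b2 g hg; exact ⟨1, by group⟩)
      rwa [(Nat.prime_dvd_prime_iff_eq Fact.out Nat.prime_two).mp (e'.trans (orderOf_dvd_of_pow_eq_one b))]
  have a6 : p ≠ 2 → (2 : F) ≠ 0 := fun e e' => e ((Nat.prime_dvd_prime_iff_eq Fact.out Nat.prime_two).mp
    ((CharP.cast_eq_zero_iff F p 2).mp e'))
  have a7 : p ≠ 2 → (∃ x ∈ M, ∃ y ∈ M, KP x y ∧ M ≤ Subgroup.normalizer ({x, y, x * y} : Set _)) →
      CF' G M ∨ Fintype.card F = p := fun e ⟨x, _, y, _, b1, b2⟩ => by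
    obtain ⟨k, b3, -⟩ := b1.exists_sub (a6 e) ((iterateFrobenius F p 1).eqLocusField (RingHom.id F))
    refine or_iff_not_imp_right.mpr fun e' => a3 _ k (fun b4 => e' ?_) (Or.inl e) (b2.trans b3)
    obtain ⟨n, c1, c2, c3⟩ := card_eq_of_locus p one_pos b4
    rw [c3, show n = 1 by omega, pow_one]
  have a8 : p ≠ 2 → p ≠ 5 → Nonempty (M ≃* alternatingGroup (Fin 5)) → CF' G M ∨
      (Fintype.card F = p ∨ Fintype.card F = p ^ 2 ∧ ¬ 5 ∣ p ^ 2 - 1) := fun e e5 ⟨f⟩ => by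
    obtain ⟨Y, b0, ⟨f'⟩⟩ := exists_alt4_le f
    obtain ⟨x, b1, y, b2, b3, -⟩ := KP_alt4 f'
    have key : ∀ j, (∀ t : F, t ^ 2 + t - 1 = 0 → t ^ p ^ j = t) →
        (iterateFrobenius F p j).eqLocusField (RingHom.id F) ≠ ⊤ → CF' G M := fun j c1 c2 => by
      obtain ⟨k, -, b4⟩ := b3.exists_sub (a6 e) ((iterateFrobenius F p j).eqLocusField (RingHom.id F))
      refine a3 _ k c2 (Or.inl e) (b4 M (le_LL_of_gen f (k := 2) closure_alt5 alt5_rels.2.1 alt5_rels.2.2.1)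
        (b0 b1) (b0 b2) fun A hA => ?_)
      have c3 := trace_alt5 (A := A) (by
        have := alt5_pow (f ⟨_, hA⟩)
        simp only [← map_pow, map_eq_one_iff _ f.injective, Subtype.ext_iff] at this
        exact this)
      simp only [mul_eq_zero, sub_eq_zero (b := (2 : F)), sub_eq_zero (a := A.1.trace), add_eq_zero_iff_eq_neg
        (a := A.1.trace)] at c3
      rcases c3 with (((((c | c) | c) | c) | c) | c) | c
      iterate 5 rw [c]; simp
      exacts [c1 _ c, neg_mem_iff.mp (c1 _ c)]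
    have c1 : ∀ s t : F, s ^ 2 + s - 1 = 0 → t ^ 2 + t - 1 = 0 → t = s ∨ t = -1 - s := fun s t c d => by
      rw [← sub_eq_zero, ← sub_eq_zero (b := -1 - s), ← mul_eq_zero]; linear_combination d - c
    have c2 : ∀ s : F, (-1 - s) ^ p = -1 - s ^ p := fun s => by
      rw [sub_pow_char, ((Fact.out : p.Prime).odd_of_ne_two e).neg_one_pow]
    refine or_iff_not_imp_right.mpr fun H => ?_
    by_cases c3 : 5 ∣ p ^ 2 - 1
    · obtain ⟨s, hs⟩ := exists_golden (F := ZMod p) (by rw [ZMod.card]; exact c3.mul_left _)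
      let ι := ZMod.castHom (dvd_refl p) F
      have c4 : ι s ^ p = ι s := by rw [← map_pow, ZMod.pow_card]
      refine key 1 (fun t ht => ?_) fun b4 => H (Or.inl ?_)
      · rcases c1 (ι s) t (by simpa using congrArg ι hs) ht with rfl | rfl <;> simp [c2, c4]
      obtain ⟨n, c1, c2, c3⟩ := card_eq_of_locus p one_pos b4
      rw [c3, show n = 1 by omega, pow_one]
    refine key 2 (fun t ht => ?_) fun b4 => H ?_
    · rw [sq, pow_mul]
      rcases c1 t (t ^ p) ht (show frobenius F p t ^ 2 + frobenius F p t - 1 = 0 by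
          simpa [-frobenius_def] using congrArg (frobenius F p) ht) with c | c
      · rw [c, c]
      · rw [c, c2, c]; ring
    obtain ⟨n, c1, c2, c4⟩ := card_eq_of_locus p two_pos b4
    obtain rfl | rfl : n = 1 ∨ n = 2 := by omega
    exacts [Or.inl (by rw [c4, pow_one]), Or.inr ⟨c4, c3⟩]
  rcases dickson_pgl2 p M with ⟨x, b1, -⟩ | ⟨b1, b2⟩ | ⟨a, s, b1, b2⟩ | ⟨b1, ⟨b2, b | b | b⟩ | ⟨b2, b⟩⟩ |
    ⟨E, k, -, b1, b2⟩
  · exact Or.inl (a1 x b1)
  · obtain ⟨a, rfl⟩ := (Subgroup.isCyclic_iff_exists_zpowers_eq_top M).mp b1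
    exact (a5 a (Or.inl (by rwa [Nat.card_zpowers] at b2)) fun _ => id).imp_right Or.inl
  · by_cases e : a = 1
    · exact (a5 s (Or.inr (by rw [sq, b1.2.1])) fun g hg => by
        obtain ⟨k, rfl | rfl⟩ := b1.mem_iff.mp hg <;> simp [e]).imp_right Or.inl
    refine Or.inr (Or.inl (a2 a e b2 fun g hg => ?_))
    obtain ⟨k, rfl | rfl⟩ := b1.mem_iff.mp hg
    · exact ⟨1, by group⟩
    · exact ⟨-1, by rw [show s * a ^ k * a * (s * a ^ k)⁻¹ = s * a * s⁻¹ by group, b1.2.2.1]; simp⟩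
  · exact Or.inr (Or.inr ((a7 (by rintro rfl; omega) (KP_alt4 (b1.equiv_alt4 b).some)).imp_right fun e =>
      Or.inl ⟨e, Or.inl (b1.equiv_alt4 b)⟩))
  · exact Or.inr (Or.inr ((a7 (by rintro rfl; omega) (KP_perm4 (b1.equiv_perm4 b).some)).imp_right fun e =>
      Or.inl ⟨e, Or.inr (b1.equiv_perm4 b)⟩))
  · exact Or.inr (Or.inr ((a8 (by rintro rfl; omega) (by rintro rfl; omega) (b1.equiv_alt5 b)).imp_right
      fun e => Or.inr ⟨by rintro rfl; omega, by rintro rfl; omega, e, b1.equiv_alt5 b⟩))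
  · exact Or.inr (Or.inr ((a8 (by omega) (by omega) (b1.equiv_alt5 b)).imp_right
      fun e => Or.inr ⟨by omega, by omega, e, b1.equiv_alt5 b⟩))
  · have b3 := Subgroup.pointwise_smul_le_pointwise_smul_iff (a := MulAut.conj k) |>.mpr (subPSL_le_subPGL E)
    refine Or.inr (Or.inr (Or.inl (a3 E k (fun e => h.nle ?_) (Or.inr b1) (by rcases b2 with e | e <;> simp [e, b3]))))
    subst e
    rcases b2 with rfl | rfl
    exacts [(LL_le_subPSL k).trans b3, LL_le_subPSL k]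

end Cfsg.Agent.H12
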