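import Mathlib
import Cfsg.Agent.H12.PMc
import Cfsg.Agent.S0803
import Cfsg.Agent.S0804
import Cfsg.Agent.S0805
import Cfsg.Agent.S0810

/-! Maximal subgroups of `PSL₂(q)`: maximality of the members of the list. -/

set_option autoImplicit false

namespace Cfsg.Agent.H12

open Matrix MulAction ProjGenLinGroup
open scoped MatrixGroups LinearAlgebra.Projectivization Pointwise

variable {F : Type*} [Field F] [Fintype F]

local notation "tp" => ProjectiveSpecialLinearGroup.toPGL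
local notation "tp_inj" => ProjectiveSpecialLinearGroup.toPGL_injective

theorem gcd_two_cases {q : ℕ} (h : 0 < q) :
    Nat.gcd 2 (q - 1) = 1 ∧ q % 2 = 0 ∨ Nat.gcd 2 (q - 1) = 2 ∧ q % 2 = 1 := by
  rcases Nat.even_or_odd (q - 1) with h | h
  · exact Or.inr ⟨Nat.gcd_eq_left h.two_dvd, by obtain ⟨k, hk⟩ := h; omega⟩
  · exact Or.inl ⟨Nat.Coprime.gcd_eq_one (by simpa using h), by obtain ⟨k, hk⟩ := h; omega⟩

theorem exists_le_equiv {G G₀ G₁ : Type*} [Group G] [Group G₀] [Group G₁] {M : Subgroup G} (e : M ≃* G₀)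
    {Z : Subgroup G₀} (f : Z ≃* G₁) : ∃ Y ≤ M, Nonempty (Y ≃* G₁) :=
  ⟨_, Subgroup.map_subtype_le _, ⟨((Subgroup.equivMapOfInjective _ e.symm.toMonoidHom e.symm.injective).trans
    (Subgroup.equivMapOfInjective _ _ M.subtype_injective)).symm.trans f⟩⟩

theorem two_mul_lt_pow {e r : ℕ} (a1 : 1 < e) (hr : 2 ≤ r) :
    2 * (e * (e ^ 2 - 1)) < e ^ r * ((e ^ r) ^ 2 - 1) := by
  have a2 := Nat.pow_le_pow_right a1.le hr
  generalize e ^ r = q at *
  obtain ⟨a, ha⟩ : ∃ a, e ^ 2 = a + 1 := ⟨_, (Nat.sub_add_cancel (by nlinarith)).symm⟩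
  obtain ⟨b, hb⟩ : ∃ b, q ^ 2 = b + 1 := ⟨_, (Nat.sub_add_cancel (by nlinarith)).symm⟩
  rw [ha, hb, Nat.add_sub_cancel, Nat.add_sub_cancel, ← mul_assoc]
  exact Nat.mul_lt_mul_of_le_of_lt (by nlinarith) (by nlinarith [Nat.le_self_pow two_ne_zero q]) (by omega)

theorem coatom_dih {H : Subgroup PSL(2, F)} {a s : PSL(2, F)} (h : IsDihedralPair H a s)
    (ho : 2 * orderOf a = Fintype.card F + 1 ∧ Fintype.card F ∉ ({7, 9} : Finset ℕ) ∨
      2 * orderOf a = Fintype.card F - 1 ∧ 13 ≤ Fintype.card F) : IsCoatom H := by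
  obtain ⟨p, hp, n, hpp, hn⟩ := FiniteField.card' F
  have : Fact p.Prime := ⟨hpp⟩
  have hq1 : 1 < Fintype.card F := Fintype.one_lt_card
  have hG := card_PSL2 (F := F) rfl
  have hpa : ¬ p ∣ orderOf a := fun hd => by
    rcases ho with ⟨e, -⟩ | ⟨e, -⟩
    exacts [natCast_card_add_one_ne_zero (F := F) ((CharP.cast_eq_zero_iff F p _).2 (e ▸ hd.mul_left _)),
      natCast_card_sub_one_ne_zero (F := F) ((CharP.cast_eq_zero_iff F p _).2 (e ▸ hd.mul_left _))]
  simp only [Finset.mem_insert, Finset.mem_singleton, not_or] at ho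
  have hd : Nat.gcd 2 (Fintype.card F - 1) = 2 := by have := gcd_two_cases (q := Fintype.card F); omega
  refine ⟨fun htop => ?_, fun M hM => by_contra fun hM' => ?_⟩
  · have h1 := h.card
    rw [htop, Subgroup.card_top] at h1
    generalize Fintype.card F = q at *
    rw [h1, hd, show q ^ 2 - 1 = (q + 1) * (q - 1) by simpa using Nat.sq_sub_sq q 1] at hG
    have h2 : (q + 1) * 6 ≤ q * ((q + 1) * (q - 1)) := by
      rw [mul_left_comm]
      exact Nat.mul_le_mul_left _ (Nat.mul_le_mul (show 3 ≤ q by omega) (show 2 ≤ q - 1 by omega))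
    omega
  have h1 := M.card_mul_index
  have h2 : M.index ≠ 1 := fun e => hM' (Subgroup.index_eq_one.1 e)
  rw [← h1] at hG
  have key := overgroup_dihedral p h hpa (by omega) hM hM'
  rw [hd] at key hG
  generalize Fintype.card F = q at *
  rcases key with h3 | ⟨h3, h4⟩ | ⟨h3, h4⟩ | ⟨h3, h4⟩ | ⟨r, h3, h4, h5⟩
  · omega
  iterate 3
    have : q ≤ 9 := by omega
    rw [h4] at hG
    interval_cases q <;> simp only [Nat.reduceSub, Nat.reducePow, Nat.reduceMul] at hG <;> omega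
  have h6 : q ≤ 2 * r + 3 := by omega
  obtain rfl : r = 3 := by nlinarith
  omega

variable (p : ℕ) [Fact p.Prime] [CharP F p]

theorem over_alt4 (hp : p ≠ 2) {Y M : Subgroup PSL(2, F)} (h : Y ≤ M) (e : Y ≃* alternatingGroup (Fin 4)) :
    (¬ p ∣ 12 ∧ Nonempty (M ≃* alternatingGroup (Fin 4))) ∨ (¬ p ∣ 24 ∧ Nonempty (M ≃* Equiv.Perm (Fin 4))) ∨
    Nonempty (M ≃* alternatingGroup (Fin 5)) ∨
    (∃ E : Subfield F, 3 ≤ Nat.card E ∧ (Nonempty (M ≃* PGL(2, E)) ∨ Nonempty (M ≃* PSL(2, E)))) := by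
  obtain ⟨u, v, a1, a2, a3, a4⟩ : ∃ u v : alternatingGroup (Fin 4), u * u ≠ 1 ∧ v * v ≠ 1 ∧
    u * v * u⁻¹ * v⁻¹ ≠ 1 ∧ (u * v * u⁻¹ * v⁻¹) ^ 2 = 1 := ⟨alt4b, alt4a * alt4b, by decide +kernel⟩
  let f := Y.subtype.comp e.symm.toMonoidHom
  have hf : Function.Injective f := Y.subtype_injective.comp e.symm.injective
  have b1 : ∀ z, f z ∈ M := fun z => h (e.symm z).2
  have b2 : f u * f v ≠ f v * f u := fun e' => a3 (by
    rw [← map_mul, ← map_mul, hf.eq_iff] at e'; simp [e'])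
  rcases dickson_psl2_iso p M with ⟨x, c1, -⟩ | ⟨c1, -⟩ | ⟨a, s, c1, -⟩ | c | c | c | c
  · have := ((mem_unip_iff p).1 (commutator_mem_unip_of_fix (g := tp (f u)) (h := tp (f v))
      ((toPGL_smul_proj ..).trans (c1 _ (b1 u))) ((toPGL_smul_proj ..).trans (c1 _ (b1 v))))).2
    simp only [← map_inv, ← map_mul, ← map_pow, map_eq_one_iff _ tp_inj, map_eq_one_iff _ hf] at this
    have c2 := orderOf_eq_prime a4 a3 ▸ orderOf_dvd_of_pow_eq_one this
    exact absurd ((Nat.prime_dvd_prime_iff_eq Nat.prime_two Fact.out).mp c2).symm hp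
  · exact absurd (congrArg Subtype.val (c1.isMulCommutative.is_comm.comm ⟨_, b1 u⟩ ⟨_, b1 v⟩)) b2
  · have c2 : ∀ z, z * z ≠ 1 → f z ∈ Subgroup.zpowers a := fun z hz =>
      (c1.mem_zpowers_or (b1 z)).resolve_right (by rwa [← map_mul, map_eq_one_iff _ hf])
    obtain ⟨i, hi⟩ := c2 u a1
    obtain ⟨j, hj⟩ := c2 v a2
    exact absurd (by rw [← hi, ← hj]; exact zpow_mul_comm ..) b2
  exacts [Or.inl c, Or.inr (Or.inl c), Or.inr (Or.inr (Or.inl c.2)), Or.inr (Or.inr (Or.inr c))]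

omit [Fintype F] in
theorem card_sub_dvd {M : Subgroup PSL(2, F)} {E : Type*} [Field E] [Finite E]
    (h : Nonempty (M ≃* PGL(2, E)) ∨ Nonempty (M ≃* PSL(2, E))) :
    Nat.card M ∣ Nat.card E * (Nat.card E ^ 2 - 1) ∧ Nat.card E * (Nat.card E ^ 2 - 1) ∣ 2 * Nat.card M := by
  have := Fintype.ofFinite E
  rw [Nat.card_eq_fintype_card (α := E)]
  rcases h with ⟨⟨e⟩⟩ | ⟨⟨e⟩⟩ <;> rw [Nat.card_congr e.toEquiv]
  · rw [card_PGL2 rfl]; exact ⟨dvd_rfl, dvd_mul_left ..⟩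
  · rw [← card_PSL2 rfl]; exact ⟨dvd_mul_left .., Nat.mul_dvd_mul_right (Nat.gcd_dvd_left ..) _⟩

theorem coatom_of_card {G : Type*} [Group G] [Finite G] {H : Subgroup G} (h0 : H ≠ ⊤)
    (h : ∀ M, H ≤ M → M ≠ ⊤ → Nat.card H ∣ Nat.card M → Nat.card M ≤ Nat.card H) : IsCoatom H :=
  ⟨h0, fun M hM => by_contra fun e =>
    hM.ne (Subgroup.eq_of_le_of_card_ge hM.le (h M hM.le e (Subgroup.card_dvd_of_le hM.le)))⟩

theorem ne_top_of_card {H : Subgroup PSL(2, F)} {k : ℕ} (hk : k ≤ Fintype.card F)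
    (h : 2 * Nat.card H < k * (k ^ 2 - 1)) : H ≠ ⊤ := by
  rintro rfl
  have := Nat.mul_le_mul_right (Nat.card PSL(2, F)) (Nat.gcd_le_left (Fintype.card F - 1) two_pos)
  rw [card_PSL2 rfl] at this
  have := Nat.mul_le_mul hk (Nat.sub_le_sub_right (Nat.pow_le_pow_left hk 2) 1)
  rw [Subgroup.card_top] at h; omega

omit [CharP F p] in
theorem top_of_prime (hF : Fintype.card F = p) {M : Subgroup PSL(2, F)} {E : Subfield F}
    (h : Nonempty (M ≃* PGL(2, E)) ∨ Nonempty (M ≃* PSL(2, E))) : M = ⊤ := by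
  obtain ⟨m, h1, h2⟩ := exists_card_subfield_pow E
  refine card_PSL2_le_of_subfield ?_ h
  rw [← h2, (Nat.Prime.eq_one_of_pow (x := Nat.card E) (n := m)
    (by rw [h2, Nat.card_eq_fintype_card, hF]; exact Fact.out)), pow_one]

theorem coatom_perm4 (hF : Fintype.card F = p) (h5 : 5 ≤ p) {H : Subgroup PSL(2, F)}
    (e : H ≃* Equiv.Perm (Fin 4)) : IsCoatom H := by
  have a1 : Nat.card H = 24 := by rw [Nat.card_congr e.toEquiv, card_perm4]
  refine coatom_of_card (ne_top_of_card (k := 5) (by omega) (by omega)) fun M b1 b2 b3 => ?_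
  obtain ⟨Y, b4, ⟨g⟩⟩ := exists_le_equiv e (MulEquiv.refl (alternatingGroup (Fin 4)))
  rcases over_alt4 p (by omega) (b4.trans b1) g with
    ⟨-, ⟨f⟩⟩ | ⟨-, ⟨f⟩⟩ | ⟨⟨f⟩⟩ | ⟨E, -, f⟩
  · rw [Nat.card_congr f.toEquiv, card_alt4]; omega
  · rw [Nat.card_congr f.toEquiv, card_perm4]; omega
  · rw [a1, Nat.card_congr f.toEquiv, card_alt5] at b3; omega
  · exact absurd (top_of_prime p hF f) b2

theorem coatom_alt4 (hF : Fintype.card F = p) (h5 : 5 ≤ p) (h8 : p % 8 = 3 ∨ p % 8 = 5)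
    (h10 : p % 10 ≠ 1 ∧ p % 10 ≠ 9) {H : Subgroup PSL(2, F)} (e : H ≃* alternatingGroup (Fin 4)) :
    IsCoatom H := by
  have a1 : Nat.card H = 12 := by rw [Nat.card_congr e.toEquiv, card_alt4]
  refine coatom_of_card (ne_top_of_card (k := 5) (by omega) (by omega)) fun M b1 b2 b3 => ?_
  rcases over_alt4 p (by omega) b1 e with ⟨-, ⟨f⟩⟩ | ⟨-, f⟩ | f | ⟨E, -, f⟩
  · rw [Nat.card_congr f.toEquiv, card_alt4]; omega
  · have := (S0803.result hF).mp ⟨M, f⟩
    rw [Nat.pow_mod] at this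
    have : p % 16 = 3 ∨ p % 16 = 11 ∨ p % 16 = 5 ∨ p % 16 = 13 := by omega
    rcases this with e | e | e | e <;> simp [e] at this
  · rcases (Nat.Prime.dvd_mul Nat.prime_five).mp ((S0804.result hF).mp ⟨M, f⟩) with c | c
    · obtain rfl := (Nat.prime_dvd_prime_iff_eq Nat.prime_five Fact.out).mp c
      have := card_PSL2 hF
      exact absurd (Subgroup.eq_top_of_card_eq _ (by
        rw [Nat.card_congr f.some.toEquiv, card_alt5]; simp at this; omega)) b2
    · rw [show p ^ 2 - 1 = (p + 1) * (p - 1) by simpa using Nat.sq_sub_sq p 1, Nat.prime_five.dvd_mul] at c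
      omega
  · exact absurd (top_of_prime p hF f) b2

theorem coatom_alt5 (h : (Fintype.card F = p ∧ (p % 10 = 1 ∨ p % 10 = 9)) ∨
    (Fintype.card F = p ^ 2 ∧ (p % 10 = 3 ∨ p % 10 = 7))) {H : Subgroup PSL(2, F)}
    (e : H ≃* alternatingGroup (Fin 5)) : IsCoatom H := by
  have a1 : Nat.card H = 60 := by rw [Nat.card_congr e.toEquiv, card_alt5]
  have a2 := (Fact.out : p.Prime).two_le
  obtain ⟨Y, a3, ⟨e'⟩⟩ := exists_alt4_le e
  refine coatom_of_card (ne_top_of_card (k := 9) (by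
    rcases h with h | h; omega; nlinarith [show 3 ≤ p by omega]) (by omega)) fun M b1 b2 b3 => ?_
  rcases over_alt4 p (by omega) (a3.trans b1) e' with ⟨-, ⟨f⟩⟩ | ⟨-, ⟨f⟩⟩ | ⟨⟨f⟩⟩ | ⟨E, -, f⟩
  · rw [Nat.card_congr f.toEquiv, card_alt4]; omega
  · rw [Nat.card_congr f.toEquiv, card_perm4]; omega
  · rw [Nat.card_congr f.toEquiv, card_alt5]; omega
  rcases h with ⟨h, -⟩ | ⟨h, h'⟩
  · exact absurd (top_of_prime p h f) b2
  obtain ⟨m, c1, c2⟩ := exists_card_subfield_pow E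
  rw [Nat.card_eq_fintype_card (α := F), h] at c2
  obtain ⟨i, c3, c4⟩ := (Nat.dvd_prime_pow Fact.out).mp (c2 ▸ dvd_pow_self (Nat.card E) (by omega))
  have c5 : 1 < Nat.card E := Finite.one_lt_card
  obtain rfl | rfl | rfl : i = 0 ∨ i = 1 ∨ i = 2 := by omega
  · simp [c4] at c5
  · have := (show 5 ∣ 60 by norm_num).trans (a1 ▸ b3.trans (card_sub_dvd f).1)
    rw [c4, pow_one, show p ^ 2 - 1 = (p + 1) * (p - 1) by simpa using Nat.sq_sub_sq p 1,
      Nat.prime_five.dvd_mul, Nat.prime_five.dvd_mul] at this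
    omega
  · exact absurd (card_PSL2_le_of_subfield (by rw [c4, Nat.card_eq_fintype_card, h]) f) b2

theorem dvd_of_sq_sub_one {p a b : ℕ} (hp : 2 ≤ p) (ha : 0 < a) (h : (p ^ a) ^ 2 - 1 ∣ 2 * ((p ^ b) ^ 2 - 1)) :
    a ∣ b := by
  rw [pow_right_comm, pow_right_comm p b] at h
  have a1 := Nat.dvd_gcd (dvd_mul_left _ 2) h
  rw [Nat.gcd_mul_left, Nat.pow_sub_one_gcd_pow_sub_one] at a1
  have a2 : 4 ≤ p ^ 2 := by nlinarith
  generalize p ^ 2 = P at *
  have a3 := Nat.one_lt_pow (Nat.gcd_pos_of_pos_left b ha).ne' (show 1 < P by omega)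
  have a4 := Nat.le_of_dvd (by omega) a1
  by_contra H
  have a5 := Nat.pow_le_pow_right (show 0 < P by omega) (show a.gcd b + 1 ≤ a from
    lt_of_le_of_ne (Nat.gcd_le_left b ha) fun e => H (e ▸ Nat.gcd_dvd_right a b))
  have := Nat.mul_le_mul_left (P ^ a.gcd b) a2
  rw [pow_succ] at a5; omega

theorem coatom_sub {K : Type*} [Field K] [Fintype K] {r : ℕ} (hr : r.Prime) (h3 : 3 ≤ Fintype.card K)
    (hF : Fintype.card F = Fintype.card K ^ r) {H : Subgroup PSL(2, F)}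
    (h : Nonempty (H ≃* PGL(2, K)) ∨ Nonempty (H ≃* PSL(2, K)) ∧ (r ≠ 2 ∨ p = 2)) : IsCoatom H := by
  obtain ⟨a1, a2⟩ := card_sub_dvd (h.imp_right And.left)
  obtain ⟨ι⟩ := nonempty_ringHom_of_card_pow (F := F) (K := K) (m := r) (by simp [hF])
  have := ι.charP ι.injective p
  obtain ⟨a, -, ha⟩ := FiniteField.card K p
  have a0 := (Fact.out : p.Prime).two_le
  obtain ⟨Y, a3, ⟨f⟩⟩ : ∃ Y ≤ H, Nonempty (Y ≃* PSL(2, K)) := by
    rcases h with ⟨⟨e⟩⟩ | ⟨e, -⟩
    · exact exists_le_equiv e (MonoidHom.ofInjective tp_inj).symm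
    · exact ⟨H, le_rfl, e⟩
  rw [Nat.card_eq_fintype_card (α := K)] at a1 a2
  have a4 : p ∣ Nat.card H := by
    by_cases e : p = 2
    · subst e
      have : 2 ≤ (a : ℕ) := by by_contra e; simp [ha, show (a : ℕ) = 1 by have := a.pos; omega] at h3
      exact Nat.dvd_of_mul_dvd_mul_left two_pos (((pow_dvd_pow 2 this).trans (ha ▸ dvd_mul_right ..)).trans a2)
    exact ((Fact.out : p.Prime).dvd_mul.mp (((dvd_pow_self p a.ne_zero).trans (ha ▸ dvd_mul_right ..)).trans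
      a2)).resolve_left fun e' => e ((Nat.prime_dvd_prime_iff_eq Fact.out Nat.prime_two).mp e')
  have c8 : 0 < Fintype.card K * (Fintype.card K ^ 2 - 1) :=
    Nat.mul_pos (by omega) (Nat.sub_pos_of_lt (by nlinarith))
  refine coatom_of_card (ne_top_of_card hF.ge ((Nat.mul_le_mul_left 2 (Nat.le_of_dvd c8 a1)).trans_lt
    (two_mul_lt_pow (by omega) hr.two_le))) fun M b1 b2 b3 => ?_
  have key : ∀ E : Subfield F, (Nonempty (M ≃* PGL(2, E)) ∨ Nonempty (M ≃* PSL(2, E))) →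
      Nat.card M ≤ Nat.card H := fun E c1 => by
    have := Fintype.ofFinite E
    obtain ⟨b, -, hb⟩ := FiniteField.card E p
    obtain ⟨m, -, c2⟩ := exists_card_subfield_pow E
    obtain ⟨c3, c4⟩ := card_sub_dvd c1
    rw [Nat.card_eq_fintype_card (α := E)] at c2 c3 c4
    obtain ⟨j, c5⟩ : (a : ℕ) ∣ b := dvd_of_sq_sub_one a0 a.2 (by
      have := (dvd_mul_left _ _).trans (a2.trans (Nat.mul_dvd_mul_left 2 (b3.trans c3)))
      rw [ha, hb, mul_left_comm] at this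
      refine Nat.Coprime.dvd_of_dvd_mul_left (Nat.Coprime.pow_right _ ?_) this
      rw [← pow_mul, Nat.coprime_comm, (Fact.out : p.Prime).coprime_iff_not_dvd, Nat.dvd_sub_iff_right]
      · exact (Fact.out : p.Prime).not_dvd_one
      · exact Nat.one_le_pow _ _ (by omega)
      · exact dvd_pow_self p (by have := a.pos; omega))
    have c6 : r = j * m := by
      rw [hb, Nat.card_eq_fintype_card, hF, ha, c5, ← pow_mul, ← pow_mul, mul_assoc] at c2
      exact (Nat.eq_of_mul_eq_mul_left a.2 (Nat.pow_right_injective a0 c2)).symm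
    rcases (Nat.prime_mul_iff.mp (c6 ▸ hr)) with ⟨-, rfl⟩ | ⟨-, rfl⟩
    · exact absurd (card_PSL2_le_of_subfield (by simpa using c2) c1) b2
    have c7 : Fintype.card E = Fintype.card K := by rw [ha, hb, c5, mul_one]
    obtain ⟨e⟩ := nonempty_ringEquiv_of_natCard_eq (F := E) (K := K) (by simpa using c7)
    rw [c7] at c3
    rcases h with ⟨⟨e'⟩⟩ | ⟨⟨e'⟩, d⟩
    · rw [Nat.card_congr e'.toEquiv, card_PGL2 rfl]; exact Nat.le_of_dvd c8 c3
    rcases c1 with ⟨⟨c1⟩⟩ | ⟨⟨c1⟩⟩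
    swap
    · exact (Nat.card_congr (c1.trans ((pslCongr _ e).trans e'.symm)).toEquiv).le
    by_cases d1 : p = 2
    · have d2 := card_PSL2 (F := K) rfl
      rw [((gcd_two_cases (by omega)).resolve_right fun e => by
        have := d1 ▸ ha ▸ dvd_pow_self p a.ne_zero; omega).1, one_mul] at d2
      rw [Nat.card_congr e'.toEquiv, d2]; exact Nat.le_of_dvd c8 c3
    exact absurd (hr.even_iff.mp ((S0805.result rfl (hF ▸ ha ▸ ((Fact.out : p.Prime).odd_of_ne_two d1).pow.pow)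
      r hr.one_le hF.symm).2.mp ⟨M, ⟨c1.trans (pglCongr _ e)⟩⟩)) (d.resolve_right d1)
  by_cases e : p = 2
  · have c1 : ¬ Group.IsSolvable M := fun c => S0810.not_solv (F := K) (by
      have := e ▸ ha ▸ dvd_pow_self p a.ne_zero; omega) (Group.isSolvable_of_isSolvable_injective
        (f := (Subgroup.inclusion (a3.trans b1)).comp f.symm.toMonoidHom)
        ((Subgroup.inclusion_injective (a3.trans b1)).comp f.symm.injective))
    rcases dickson_psl2_iso p M with ⟨x, c, -⟩ | ⟨c, -⟩ | ⟨a, s, c, -⟩ | c | c | c | ⟨E, -, c⟩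
    · have := isSolvable_of_fix (M.map tp) (x := x) (by rintro _ ⟨g, hg, rfl⟩; rw [toPGL_smul_proj]; exact c g hg)
      exact absurd (Group.isSolvable_of_isSolvable_injective (f := (M.equivMapOfInjective _ tp_inj).toMonoidHom)
        (MulEquiv.injective _)) c1
    · exact absurd (Group.isSolvable_of_comm c.isMulCommutative.is_comm.comm) c1
    · exact absurd c.isSolvable c1
    iterate 3 simp [e] at c
    exact key E c
  obtain ⟨Z, ⟨g⟩⟩ := exists_alt4 (F := K) fun e' => e ((Nat.prime_dvd_prime_iff_eq Fact.out Nat.prime_two).mp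
    ((CharP.cast_eq_zero_iff K p 2).mp e'))
  obtain ⟨Z', a5, ⟨g⟩⟩ := exists_le_equiv f g
  rcases over_alt4 p e (a5.trans (a3.trans b1)) g with
    ⟨c, ⟨c'⟩⟩ | ⟨c, ⟨c'⟩⟩ | ⟨⟨c'⟩⟩ | ⟨E, -, c⟩
  · exact absurd (by simpa only [Nat.card_congr c'.toEquiv, card_alt4] using a4.trans b3) c
  · exact absurd (by simpa only [Nat.card_congr c'.toEquiv, card_perm4] using a4.trans b3) c
  · rw [Nat.card_congr c'.toEquiv, card_alt5] at b3 ⊢
    have d1 := Nat.le_of_dvd (by norm_num) (a2.trans (Nat.mul_dvd_mul_left 2 b3))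
    have d2 : Odd (Fintype.card K) := ha ▸ ((Fact.out : p.Prime).odd_of_ne_two e).pow
    have d3 : Fintype.card K ≤ 5 := by
      by_contra! d
      have := Nat.mul_le_mul d (Nat.sub_le_sub_right (Nat.pow_le_pow_left d 2) 1)
      norm_num at this; omega
    obtain d | d : Fintype.card K = 3 ∨ Fintype.card K = 5 := by obtain ⟨k, hk⟩ := d2; omega
    swap
    · have := Nat.le_of_dvd (Nat.mul_pos two_pos Nat.card_pos) a2
      rw [d] at this; omega
    rcases h with ⟨⟨e'⟩⟩ | ⟨-, d4⟩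
    · rw [Nat.card_congr e'.toEquiv, card_PGL2 d] at b3; omega
    obtain ⟨k, rfl⟩ := hr.odd_of_ne_two (d4.resolve_right e)
    have := (S0804.result hF).mp ⟨M, ⟨c'⟩⟩
    rw [d, Nat.prime_five.dvd_mul, pow_right_comm, pow_succ (3 ^ 2), pow_mul] at this
    rcases this with d5 | d5
    · exact absurd (Nat.prime_five.dvd_of_dvd_pow d5) (by norm_num)
    have : ((3 ^ 2) ^ 2) ^ k % 5 = 1 := by simp [Nat.pow_mod]
    omega
  · exact key E c

end Cfsg.Agent.H12
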