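import Mathlib
import Cfsg.Agent.H12.PMd

/-! Maximal subgroups of `PSL₂(q)` and `PGL₂(q)`: side conditions. -/

set_option autoImplicit false

namespace Cfsg.Agent.H12

open Matrix MulAction ProjGenLinGroup
open scoped MatrixGroups LinearAlgebra.Projectivization Pointwise

section
variable {G : Type*} [Group G] {D H : Subgroup G} {a s : G}

theorem IsDihedralPair.mul (h : IsDihedralPair D a s) : IsDihedralPair D a (s * a) := by
  have a1 := h.2.2.1
  refine ⟨le_antisymm (h.1.le.trans ((Subgroup.closure_le _).mpr ?_)) ((Subgroup.closure_le _).mpr ?_),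
    by rw [show s * a * (s * a) = s * a * s⁻¹ * (s * s) * a by group, a1, h.2.1]; simp,
    by rw [← a1]; group, fun e => h.2.2.2 (by simpa using mul_mem e (inv_mem (Subgroup.mem_zpowers a)))⟩
  · rintro _ (rfl | rfl)
    · exact Subgroup.subset_closure (by simp)
    · simpa using mul_mem (Subgroup.subset_closure (k := {a, _ * a}) (Or.inr rfl))
        (inv_mem (Subgroup.subset_closure (Or.inl rfl)))
  · rintro _ (rfl | rfl)
    exacts [h.left_mem, mul_mem h.right_mem h.left_mem]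

theorem IsDihedralPair.inf (h : IsDihedralPair D a s) (h2 : H.index = 2) (ha : a ∉ H) (hs : s ∈ H) :
    IsDihedralPair (H ⊓ D) (a * a) s := by
  have a0 : a * a ∈ H := by simp [Subgroup.mul_mem_iff_of_index_two h2]
  have a1 : ∀ k : ℤ, a ^ k ∈ H → a ^ k ∈ Subgroup.zpowers (a * a) := fun k hk => by
    obtain ⟨j, rfl | rfl⟩ := Int.even_or_odd' k
    · exact ⟨j, by rw [_root_.zpow_mul, zpow_two]⟩
    · rw [_root_.zpow_add_one, _root_.zpow_mul, zpow_two] at hk
      exact absurd ((H.mul_mem_cancel_left (zpow_mem a0 j)).mp hk) ha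
  have a2 : Subgroup.zpowers (a * a) ≤ Subgroup.closure {a * a, s} :=
    Subgroup.zpowers_le.mpr (Subgroup.subset_closure (by simp))
  refine ⟨le_antisymm (fun g hg => ?_) ((Subgroup.closure_le _).mpr ?_), h.2.1,
    by rw [_root_.mul_inv_rev, ← h.2.2.1]; group,
    fun e => h.2.2.2 (Subgroup.zpowers_le.mpr (mul_mem (Subgroup.mem_zpowers a) (Subgroup.mem_zpowers a)) e)⟩
  · obtain ⟨k, rfl | rfl⟩ := h.mem_iff.mp hg.2
    · exact a2 (a1 k hg.1)
    · exact mul_mem (Subgroup.subset_closure (by simp)) (a2 (a1 k ((H.mul_mem_cancel_left hs).mp hg.1)))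
  · rintro _ (rfl | rfl)
    exacts [⟨a0, mul_mem h.left_mem h.left_mem⟩, ⟨hs, h.right_mem⟩]

theorem IsDihedralPair.not_coatom [Finite G] [IsSimpleGroup G] (h : IsDihedralPair D a s) {r : ℕ}
    (hr : r.Prime) (ha : orderOf a = r) (h1 : ¬ r ^ 2 ∣ Nat.card G) {X : Subgroup G} (hX : X ≠ ⊤)
    (h3 : 2 * r < Nat.card X) {b t : G} (hb : b ∈ X) (ht : t ∈ X) (h4 : orderOf b = r)
    (h5 : t * b * t⁻¹ = b⁻¹) (h6 : t * b ≠ b * t) : ¬ IsCoatom D := fun H => by
  have := Fact.mk hr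
  have a1 : ∀ c : G, orderOf c = r → ∃ P : Sylow r G, (P : Subgroup G) = Subgroup.zpowers c := fun c hc =>
    ⟨(IsPGroup.of_card (G := Subgroup.zpowers c) (n := 1) (by rw [Nat.card_zpowers, hc, pow_one])).toSylow fun e => h1 (by
      rw [← (Subgroup.zpowers c).card_mul_index, Nat.card_zpowers, hc, sq]; exact mul_dvd_mul_left _ e), rfl⟩
  obtain ⟨P, hP⟩ := a1 a ha
  obtain ⟨Q, hQ⟩ := a1 b h4
  obtain ⟨g, rfl⟩ := exists_smul_eq G Q P
  have a2 : ∀ {c u : G}, u * c * u⁻¹ = c⁻¹ → u ∈ Subgroup.normalizer (Subgroup.zpowers c : Set G) :=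
    fun {c u} e => Subgroup.mem_normalizer_fintype (by
      rintro _ ⟨k, rfl⟩; exact ⟨-k, by simp [← conj_zpow, e]⟩)
  have a3 : D = Subgroup.normalizer (Subgroup.zpowers a : Set G) := (H.le_iff.mp (h.1.le.trans
    ((Subgroup.closure_le _).mpr (by
      rintro _ (rfl | rfl)
      exacts [Subgroup.le_normalizer (Subgroup.mem_zpowers _), a2 h.2.2.1])))).elim (fun e => by
        rcases (Subgroup.normalizer_eq_top_iff.mp e).eq_bot_or_eq_top with e | e
        · simp [Subgroup.zpowers_eq_bot.mp e] at ha; exact absurd ha.symm hr.ne_one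
        · exact absurd (e ▸ Subgroup.mem_top s) h.2.2.2) Eq.symm
  have a4 : Subgroup.zpowers a = MulAut.conj g • Subgroup.zpowers b := by rw [← hP, ← hQ]; rfl
  have a5 : ∀ u ∈ Subgroup.normalizer (Subgroup.zpowers b : Set G), g * u * g⁻¹ ∈ D := fun u hu => by
    rw [a3, a4]
    refine Subgroup.mem_normalizer_fintype ?_
    rintro _ ⟨z, hz, rfl⟩
    exact ⟨_, (hu z).mp hz, by simp [mul_assoc]⟩
  have a6 : Subgroup.zpowers a < D ⊓ MulAut.conj g • X := lt_of_le_of_ne
    (le_inf (Subgroup.zpowers_le.mpr h.left_mem) (a4 ▸ Subgroup.pointwise_smul_le_pointwise_smul_iff.mpr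
      (Subgroup.zpowers_le.mpr hb))) fun e => by
        obtain ⟨_, ⟨k, rfl⟩, c⟩ := a4 ▸ e.ge ⟨a5 t (a2 h5), t, ht, rfl⟩
        exact h6 (by rw [← show b ^ k = t by simpa using c]; group)
  obtain ⟨k, a7⟩ := Subgroup.card_dvd_of_le a6.le
  have a8 := Subgroup.card_dvd_of_le (inf_le_left : D ⊓ MulAut.conj g • X ≤ D)
  rw [Nat.card_zpowers, ha] at a7
  rw [h.card, ha, a7, mul_comm 2] at a8
  have a9 : k = 2 := ((Nat.dvd_prime Nat.prime_two).mp (Nat.dvd_of_mul_dvd_mul_left hr.pos a8)).resolve_left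
    fun e => a6.ne (Subgroup.eq_of_le_of_card_ge a6.le (by rw [a7, e, Nat.card_zpowers, ha, mul_one]))
  have b1 : D ≤ MulAut.conj g • X := inf_eq_left.mp (Subgroup.eq_of_le_of_card_ge inf_le_left (by
    rw [a7, a9, h.card, ha, mul_comm]))
  rcases H.le_iff.mp b1 with e | e
  · exact hX (Subgroup.eq_top_of_card_eq _ (by rw [← card_conj_smul' X g, e, Subgroup.card_top]))
  · rw [← card_conj_smul' X g, e, h.card, ha] at h3; omega

end

variable {F : Type*} [Field F] [Fintype F] {G M : Subgroup PGL(2, F)} {x y x' y' : PGL(2, F)}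

local notation "pm" => ProjGenLinGroup.mk
local notation "tp" => ProjectiveSpecialLinearGroup.toPGL
local notation "tp_inj" => ProjectiveSpecialLinearGroup.toPGL_injective

theorem card_inf_stabilizer (h : LL F ≤ G) (x : P1 F) :
    Nat.card (G ⊓ stabilizer PGL(2, F) x : Subgroup _) * (Fintype.card F + 1) = Nat.card G := by
  have : IsPretransitive G (P1 F) := ⟨fun a b => by
    obtain ⟨g, hg⟩ := exists_smul_eq PSL(2, F) a b
    exact ⟨⟨_, h ⟨g, rfl⟩⟩, (toPGL_smul_proj g a).trans hg⟩⟩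
  rw [← card_subgroupOf_eq, ← stabilizer_subgroup_eq, ← Nat.card_eq_fintype_card, ← card_P1,
    ← index_stabilizer_of_transitive G x, Subgroup.card_mul_index]

theorem MP.of_psl {M : Subgroup PSL(2, F)} (h : IsCoatom M) : MP (LL F) (M.map tp) := by
  refine ⟨le_rfl, fun X a1 a2 => ?_, fun e => h.1 (eq_top_iff.mpr fun g _ => ?_)⟩
  · rw [← (h.le_iff.mp (Subgroup.map_le_iff_le_comap.mp a1)).resolve_left fun e => a2 (by
      rintro _ ⟨g, rfl⟩; exact e.ge (Subgroup.mem_top g)), Subgroup.map_comap_eq]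
  · exact (Subgroup.mem_map_iff_mem tp_inj).mp (e ⟨g, rfl⟩)

theorem MP.of_pgl (h : IsCoatom M) (h' : ¬ LL F ≤ M) : MP ⊤ M :=
  ⟨le_top, fun X a1 a2 => by rw [(h.le_iff.mp a1).resolve_left (by rintro rfl; exact a2 le_top), top_inf_eq], h'⟩

theorem LL_eq_top (h : Even (Fintype.card F)) : LL F = ⊤ := by
  rw [← Subgroup.index_eq_one, index_range_toPGL, Nat.card_eq_fintype_card]
  exact ((gcd_two_cases Fintype.card_pos).resolve_right (by rw [Nat.even_iff] at h; omega)).1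

omit [Fintype F] in
theorem range_eq_LL : ((pm : GL (Fin 2) F →* _).comp SpecialLinearGroup.toGL).range = LL F :=
  Subgroup.ext fun _ => mem_LL.symm

variable (h2 : (2 : F) ≠ 0) (h4 : 4 ≤ Fintype.card F)
include h2

theorem odd_card : Fintype.card F % 2 = 1 := Nat.mod_two_ne_zero.mp fun e =>
  h2 (show ((2 : ℕ) : F) = 0 from FiniteField.even_card_iff_char_two.mpr e ▸ ringChar.Nat.cast_ringChar)

theorem index_LL : (LL F).index = 2 := by
  rw [index_range_toPGL, Nat.card_eq_fintype_card]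
  exact ((gcd_two_cases Fintype.card_pos).resolve_left fun e => by have := odd_card h2; omega).1

theorem subPGL_le_LL {E : Subfield F} (h : Nat.card E ^ 2 = Fintype.card F) (k : PGL(2, F)) :
    MulAut.conj k • subPGL E ≤ LL F := by
  rintro _ ⟨_, ⟨g, rfl⟩, rfl⟩
  refine normal_LL.conj_mem _ ?_ k
  obtain ⟨g, rfl⟩ := mk_surjective g
  have hd : E.subtype g.1.det ≠ 0 := (map_ne_zero _).2 g.det_ne_zero
  have a1 := odd_card h2
  have := Fintype.ofFinite E
  obtain ⟨c, hc⟩ : IsSquare (E.subtype g.1.det) := by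
    rw [FiniteField.isSquare_iff (by rw [Ne, FiniteField.even_card_iff_char_two]; omega) hd, ← map_pow]
    obtain ⟨b, hb⟩ : Odd (Fintype.card E) := by
      rw [← Nat.card_eq_fintype_card, ← Nat.odd_pow_iff two_ne_zero, h, Nat.odd_iff, a1]
    rw [show Fintype.card F / 2 = (Fintype.card E - 1) * (b + 1) by
      rw [← h, Nat.card_eq_fintype_card, hb, Nat.add_sub_cancel,
        show (2 * b + 1) ^ 2 = 1 + 2 * (2 * b * (b + 1)) by ring]; omega,
      pow_mul, FiniteField.pow_card_sub_one_eq_one _ g.det_ne_zero, one_pow, map_one]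
  have hc0 : c ≠ 0 := by rintro rfl; simp [hc] at hd
  refine mem_range_toPGL_of_det (c := c⁻¹) ?_
  change _ * (E.subtype.mapMatrix g.1).det = 1
  rw [← RingHom.map_det, hc, Fintype.card_fin]
  field_simp

theorem LL_inf_subPGL {E : Subfield F} {r : ℕ} (hr : Odd r) (h : Nat.card E ^ r = Fintype.card F)
    (k : PGL(2, F)) : LL F ⊓ MulAut.conj k • subPGL E = MulAut.conj k • subPSL E := by
  rw [← Subgroup.Normal.conj_smul_eq_self k (LL F), ← Subgroup.smul_inf]
  congr 1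
  have := Fintype.ofFinite E
  rcases eq_top_or_eq_range_toPGL (H := (LL F).comap (ProjGenLinGroup.map E.subtype)) (by
    rintro _ ⟨g, rfl⟩; exact ⟨_, toPGL_pslMap _ g⟩) with e | e
  · refine absurd ((S0805.result rfl (Nat.odd_iff.mpr (odd_card h2)) r hr.pos
      (Nat.card_eq_fintype_card (α := E) ▸ h)).2.mp ⟨(subPGL E).comap tp, ⟨?_⟩⟩) (Nat.not_even_iff_odd.mpr hr)
    exact ((Subgroup.equivMapOfInjective _ _ tp_inj).trans (MulEquiv.subgroupCongr (Subgroup.map_comap_eq_self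
      (by rintro _ ⟨g, rfl⟩; exact e.ge (Subgroup.mem_top g))))).trans
      (MonoidHom.ofInjective (pgl2_map_injective _)).symm
  · refine le_antisymm ?_ (le_inf (by simpa using subPSL_le_LL E 1) (subPSL_le_subPGL E))
    rintro _ ⟨a, g, rfl⟩
    obtain ⟨g, rfl⟩ := e.le a
    exact ⟨g, rfl⟩

include h4

theorem exists_dih_LL {D : Subgroup PGL(2, F)} {b s : PGL(2, F)} (h : IsDihedralPair D b s)
    (ho : orderOf b = Fintype.card F - 1 ∨ orderOf b = Fintype.card F + 1) : ∃ s ∈ LL F, IsDihedralPair D b s ∧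
      IsDihedralPair (LL F ⊓ D) (b * b) s ∧ 2 * orderOf (b * b) = orderOf b := by
  obtain ⟨p, hp, n, hpp, hn⟩ := FiniteField.card' F
  have := Fact.mk hpp
  have a0 := odd_card h2
  have a1 : b ∉ LL F := by
    rintro ⟨b, rfl⟩
    rw [orderOf_injective _ tp_inj] at ho
    have := psl2_orderOf_dvd p (g := b) fun hd => by
      rcases ho with e | e
      exacts [natCast_card_sub_one_ne_zero (F := F) ((CharP.cast_eq_zero_iff F p _).2 (e ▸ hd)),
        natCast_card_add_one_ne_zero (F := F) ((CharP.cast_eq_zero_iff F p _).2 (e ▸ hd))]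
    rw [((gcd_two_cases Fintype.card_pos).resolve_left (by omega)).1] at this
    rcases this with e | e <;> have := Nat.le_of_dvd (by omega) e <;> omega
  have a2 : 2 * orderOf (b * b) = orderOf b := by
    rw [← sq, orderOf_pow' _ two_ne_zero, Nat.gcd_eq_right (by omega)]; omega
  by_cases e : s ∈ LL F
  · exact ⟨s, e, h, h.inf (index_LL h2) a1 e, a2⟩
  · have : s * b ∈ LL F := by simp only [Subgroup.mul_mem_iff_of_index_two (index_LL h2), e, a1]
    exact ⟨_, this, h.mul, h.mul.inf (index_LL h2) a1 this, a2⟩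

theorem MP.eq_inf (h : MP G M) (h1 : KP x y) (h3 : M ≤ Subgroup.normalizer ({x, y, x * y} : Set _)) :
    M = G ⊓ Subgroup.normalizer ({x, y, x * y} : Set _) :=
  h.max _ h3 (h1.not_le h2 (by rwa [Nat.card_eq_fintype_card]))

theorem MP.conj_le [G.Normal] (h : MP G M) (h1 : KP x y) (h3 : M ≤ Subgroup.normalizer ({x, y, x * y} : Set _))
    (h1' : KP x' y') {Y : Subgroup PGL(2, F)} (h5 : Y ≤ G)
    (h6 : Y ≤ Subgroup.normalizer ({x', y', x' * y'} : Set _)) : ∃ k : PGL(2, F), MulAut.conj k • Y ≤ M := by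
  obtain ⟨P, rfl, rfl⟩ := h1'.exists_conj h2 h1
  refine ⟨P, ?_⟩
  rw [h.eq_inf h2 h4 h1 h3]
  rintro _ ⟨g, hg, rfl⟩
  refine ⟨Subgroup.Normal.conj_mem ‹_› _ (h5 hg) P, Subgroup.mem_normalizer_fintype fun z hz => ?_⟩
  have key : ∀ z, P * z * P⁻¹ ∈ ({P * x' * P⁻¹, P * y' * P⁻¹, P * x' * P⁻¹ * (P * y' * P⁻¹)} : Set _) ↔
      z ∈ ({x', y', x' * y'} : Set _) := fun z => by simp [← mul_assoc]; simp [mul_assoc]
  obtain ⟨z, rfl⟩ := (MulAut.conj P).surjective z
  convert (key _).mpr ((h6 hg z).mp ((key z).mp hz)) using 1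
  simp [mul_assoc]

theorem MP.not_dih (h : MP G M) {a s : PGL(2, F)} (h1 : IsDihedralPair M a s) (hs : s ∈ LL F)
    (ha : orderOf a = 2 ∧ a ∈ LL F ∨ orderOf a = 4) : False := by
  obtain ⟨x, a1, a2, a3, a4⟩ : ∃ x ∈ Subgroup.zpowers a, x ∈ LL F ∧ orderOf x = 2 ∧ (a * a = 1 ∨ a * a = x) := by
    rcases ha with ⟨e, e'⟩ | e
    · exact ⟨a, Subgroup.mem_zpowers a, e', e, Or.inl (by rw [← sq]; exact orderOf_dvd_iff_pow_eq_one.mp e.dvd)⟩
    · exact ⟨a * a, mul_mem (Subgroup.mem_zpowers a) (Subgroup.mem_zpowers a), sq_mem_LL a,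
        by rw [← sq, orderOf_pow' _ two_ne_zero, e]; rfl, Or.inr rfl⟩
  have a5 : x * x = 1 := by rw [← sq]; exact orderOf_dvd_iff_pow_eq_one.mp a3.dvd
  have a6 : ∀ g ∈ Subgroup.zpowers a, g * x = x * g := by
    obtain ⟨k, rfl⟩ := a1; rintro _ ⟨j, rfl⟩; exact zpow_mul_comm ..
  have a7 : s * x = x * s := by
    obtain ⟨k, rfl⟩ := a1
    rw [← mul_inv_eq_iff_eq_mul, ← conj_zpow, h1.2.2.1, _root_.inv_zpow, inv_eq_iff_mul_eq_one, a5]
  have b1 : KP x s := ⟨a2, hs, a3, orderOf_eq_prime (by rw [sq, h1.2.1]) (by rintro rfl; simpa using h1.2.2.2),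
    by rintro rfl; exact h1.2.2.2 a1, a7⟩
  have b2 : a * s * a⁻¹ = a * a * s := by
    rw [mul_assoc, mul_assoc, mul_right_inj, ← mul_inv_eq_iff_eq_mul, ← _root_.inv_inj]
    exact Eq.trans (by group) h1.2.2.1
  obtain ⟨P, c1, c2, c3⟩ := b1.exists_rot h2
  have c4 : P ∈ M := by
    rw [h.eq_inf h2 h4 b1 (h1.1.le.trans ((Subgroup.closure_le _).mpr ?_))]
    · refine ⟨h.le c1, Subgroup.mem_normalizer_fintype ?_⟩
      rintro _ (rfl | rfl | rfl)
      · simp [c2]
      · simp [c3]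
      · rw [show P * (x * s) * P⁻¹ = P * x * P⁻¹ * (P * s * P⁻¹) by group, c2, c3, ← mul_assoc, a7, mul_assoc,
          h1.2.1]; simp
    have b3 := a6 a (Subgroup.mem_zpowers a)
    rintro g (e | e) <;> rw [e] <;> refine Subgroup.mem_normalizer_fintype ?_ <;> rintro z (e | e | e) <;> rw [e]
    · simp [b3]
    · rcases a4 with e | e <;> simp [b2, e]
    · rw [← mul_assoc, b3, mul_assoc x, mul_assoc x, b2]
      rcases a4 with e | e <;> simp [e, ← mul_assoc, a5]
    · simp [a7]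
    · simp
    · simp [← mul_assoc, a7]
  rcases h1.mem_zpowers_or c4 with e | e
  · exact b1.ne (by rw [← c2, a6 P e]; simp)
  · exact b1.mul_ne (by rw [← c3, ← c2, show P * (P * x * P⁻¹) * P⁻¹ = P * P * x * (P * P)⁻¹ by group, e]; simp)

omit h2 h4 in
theorem comap_equiv (M : Subgroup PGL(2, F)) : Nonempty (M.comap tp ≃* (LL F ⊓ M : Subgroup _)) :=
  ⟨(Subgroup.equivMapOfInjective _ _ tp_inj).trans (MulEquiv.subgroupCongr (Subgroup.map_comap_eq _ _))⟩

theorem MP.not_perm4_le [G.Normal] (h : MP G M) (h1 : KP x y)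
    (h3 : M ≤ Subgroup.normalizer ({x, y, x * y} : Set _)) (h8 : Fintype.card F % 8 = 1 ∨ Fintype.card F % 8 = 7) :
    ∃ Y ≤ M, Y ≤ LL F ∧ Nat.card Y = 24 := by
  obtain ⟨H, ⟨e⟩⟩ := (S0803.result (F := F) rfl).mpr (by
    have : Fintype.card F % 16 = 1 ∨ Fintype.card F % 16 = 9 ∨ Fintype.card F % 16 = 7 ∨
      Fintype.card F % 16 = 15 := by omega
    rcases this with e | e | e | e <;> simp [Nat.pow_mod, e])
  have e' := (H.equivMapOfInjective _ tp_inj).symm.trans e
  obtain ⟨x', -, y', -, a1, a2⟩ := KP_perm4 e'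
  have a3 : H.map tp ≤ LL F := Subgroup.map_le_range ..
  obtain ⟨k, a4⟩ := h.conj_le h2 h4 h1 h3 a1 (a3.trans h.le) a2
  exact ⟨_, a4, Subgroup.Normal.conj_smul_eq_self k (LL F) ▸ Subgroup.pointwise_smul_le_pointwise_smul_iff.mpr a3,
    by rw [card_conj_smul', Nat.card_congr e'.toEquiv, card_perm4]⟩

theorem MP.not_alt4 (h : MP (LL F) M) (e : M ≃* alternatingGroup (Fin 4))
    (h10 : Fintype.card F % 10 = 1 ∨ Fintype.card F % 10 = 9) : False := by
  obtain ⟨x, -, y, -, a1, a2⟩ := KP_alt4 e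
  obtain ⟨H, ⟨f⟩⟩ := (S0804.result (F := F) rfl).mpr (Dvd.dvd.mul_left (by
    rw [show Fintype.card F ^ 2 - 1 = (Fintype.card F + 1) * (Fintype.card F - 1) by simpa using Nat.sq_sub_sq _ 1,
      Nat.prime_five.dvd_mul]; omega) _)
  have f' := (H.equivMapOfInjective _ tp_inj).symm.trans f
  obtain ⟨Y, a3, ⟨g⟩⟩ := exists_alt4_le f'
  obtain ⟨x', -, y', -, a4, a5⟩ := KP_alt4 g
  have a6 : H.map tp ≤ LL F := Subgroup.map_le_range ..
  obtain ⟨k, a7⟩ := h.conj_le h2 h4 a1 a2 a4 (a3.trans a6) a5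
  have b1 : Nat.card (MulAut.conj k • H.map tp : Subgroup _) = 60 := by
    rw [card_conj_smul', Nat.card_congr f'.toEquiv, card_alt5]
  have b2 := h.max _ ((Subgroup.eq_of_le_of_card_ge a7 (by
    rw [card_conj_smul', Nat.card_congr (e.trans g.symm).toEquiv])).ge.trans
    (Subgroup.pointwise_smul_le_pointwise_smul_iff.mpr a3)) (not_LL_le (by
      have : 9 ≤ Fintype.card F := by omega
      have := Nat.mul_le_mul this (Nat.sub_le_sub_right (Nat.pow_le_pow_left this 2) 1)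
      omega))
  rw [inf_eq_right.mpr (Subgroup.Normal.conj_smul_eq_self k (LL F) ▸
    Subgroup.pointwise_smul_le_pointwise_smul_iff.mpr a6)] at b2
  rw [← b2, Nat.card_congr e.toEquiv, card_alt4] at b1; omega

end Cfsg.Agent.H12
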